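import Cfsg.Agent.Schur.Basic
import Mathlib.GroupTheory.FiniteAbelian.Duality
import Mathlib.Analysis.Complex.Polynomial.Basic
import Mathlib.LinearAlgebra.Matrix.GeneralLinearGroup.Defs
import Mathlib.LinearAlgebra.Matrix.ToLin
import Mathlib.RingTheory.RootsOfUnity.AlgebraicallyClosed

/-!
Comparing two stem extensions through their pullback; monomial representations of a central
extension.
-/

set_option autoImplicit false
set_option linter.unusedSectionVars false
set_option linter.style.haveILetI false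

namespace CfsgLib.Schur

open Subgroup
open scoped commutatorElement

universe u v w

variable {Q : Type u} [Group Q] {Γ : Type v} [Group Γ] {Δ : Type w} [Group Δ]

/-- The pullback of two maps onto `Q`. -/
def pullback (σ : Γ →* Q) (τ : Δ →* Q) : Subgroup (Γ × Δ) :=
  (σ.comp (MonoidHom.fst Γ Δ)).eqLocus (τ.comp (MonoidHom.snd Γ Δ))

theorem mem_pullback {σ : Γ →* Q} {τ : Δ →* Q} {x : Γ × Δ} :
    x ∈ pullback σ τ ↔ σ x.1 = τ x.2 := Iff.rfl

/-- First projection of the pullback. -/
def pfst (σ : Γ →* Q) (τ : Δ →* Q) : pullback σ τ →* Γ :=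
  (MonoidHom.fst Γ Δ).comp (pullback σ τ).subtype

/-- Second projection of the pullback. -/
def psnd (σ : Γ →* Q) (τ : Δ →* Q) : pullback σ τ →* Δ :=
  (MonoidHom.snd Γ Δ).comp (pullback σ τ).subtype

theorem pfst_surjective (σ : Γ →* Q) (τ : Δ →* Q) (hτ : Function.Surjective τ) :
    Function.Surjective (pfst σ τ) := fun g => by
  obtain ⟨d, hd⟩ := hτ (σ g)
  exact ⟨⟨(g, d), hd.symm⟩, rfl⟩

theorem psnd_surjective (σ : Γ →* Q) (τ : Δ →* Q) (hσ : Function.Surjective σ) :
    Function.Surjective (psnd σ τ) := fun d => by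
  obtain ⟨g, hg⟩ := hσ (τ d)
  exact ⟨⟨(g, d), hg⟩, rfl⟩

theorem pfst_ker_le_center (σ : Γ →* Q) (τ : Δ →* Q) (hc : τ.ker ≤ center Δ) :
    (pfst σ τ).ker ≤ center (pullback σ τ) := by
  intro z hz
  have h1 : z.1.1 = 1 := hz
  have h2 : z.1.2 ∈ center Δ := hc (by
    rw [MonoidHom.mem_ker, ← mem_pullback.1 z.2, h1, map_one])
  exact mem_center_iff.2 fun y => Subtype.ext (Prod.ext (by simp [h1]) (mem_center_iff.1 h2 y.1.2))

theorem map_commutator_of_surjective {A : Type*} {B : Type*} [Group A] [Group B] (f : A →* B)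
    (hf : Function.Surjective f) : (commutator A).map f = commutator B := by
  rw [_root_.commutator_def, _root_.commutator_def, map_commutator, map_top_of_surjective f hf]

/-- If the derived group of the pullback meets the kernel of the first projection trivially, the
first kernel maps onto the second. -/
theorem exists_surjection_ker {σ : Γ →* Q} {τ : Δ →* Q} (hσ : Cfsg.IsStemExtension σ)
    (hτ : Cfsg.IsStemExtension τ)
    (h : ∀ e ∈ commutator (pullback σ τ), pfst σ τ e = 1 → psnd σ τ e = 1) :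
    ∃ π : σ.ker →* τ.ker, Function.Surjective π := by
  classical
  have hmap := map_commutator_of_surjective _ (pfst_surjective σ τ hτ.1)
  have hex : ∀ z : σ.ker, ∃ e ∈ commutator (pullback σ τ), pfst σ τ e = z := fun z =>
    hmap.ge (hσ.2.2 z.2)
  choose e he hez using hex
  have huniq : ∀ a ∈ commutator (pullback σ τ), ∀ b ∈ commutator (pullback σ τ),
      pfst σ τ a = pfst σ τ b → psnd σ τ a = psnd σ τ b := by
    intro a ha b hb hab
    have h1 := h (a⁻¹ * b) (mul_mem (inv_mem ha) hb) (by rw [map_mul, map_inv, hab, inv_mul_cancel])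
    rwa [map_mul, map_inv, inv_mul_eq_one] at h1
  have hmem : ∀ z : σ.ker, psnd σ τ (e z) ∈ τ.ker := fun z => by
    show τ (e z).1.2 = 1
    rw [← mem_pullback.1 (e z).2, show (e z).1.1 = z from hez z]
    exact z.2
  refine ⟨MonoidHom.mk' (fun z => ⟨psnd σ τ (e z), hmem z⟩) fun a b => Subtype.ext ?_, ?_⟩
  · show psnd σ τ (e (a * b)) = psnd σ τ (e a) * psnd σ τ (e b)
    rw [← map_mul]
    exact huniq _ (he _) _ (mul_mem (he a) (he b)) (by rw [map_mul, hez, hez, hez]; rfl)
  · rintro ⟨w, hw⟩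
    obtain ⟨x, hx, hxw⟩ :=
      (map_commutator_of_surjective _ (psnd_surjective σ τ hσ.1)).ge (hτ.2.2 hw)
    have hz : pfst σ τ x ∈ σ.ker := by
      show σ x.1.1 = 1
      rw [mem_pullback.1 x.2, show x.1.2 = w from hxw]
      exact hw
    refine ⟨⟨_, hz⟩, Subtype.ext ?_⟩
    show psnd σ τ (e ⟨_, hz⟩) = w
    rw [huniq _ (he _) x hx (hez _), hxw]

/-- A representation induced from a character of a central subgroup. -/
theorem exists_rep [Finite Δ] (Z : Subgroup Δ) (hZ : Z ≤ center Δ) (lam : Z →* ℂˣ) :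
    ∃ (n : ℕ) (R : Δ →* GL (Fin n) ℂ), (∀ z : Z, R z ∈ center (GL (Fin n) ℂ)) ∧
      ∀ z : Z, R z = 1 → lam z = 1 := by
  classical
  let W : Submodule ℂ (Δ → ℂ) :=
    { carrier := {f | ∀ (z : Z) (x : Δ), f (z * x) = (lam z : ℂ) * f x}
      add_mem' := fun {f g} hf hg z x => by simp [hf z x, hg z x, mul_add]
      zero_mem' := fun z x => by simp
      smul_mem' := fun c f hf z x => by simp [hf z x]; ring }
  let op : Δ → (W →ₗ[ℂ] W) := fun g =>
    { toFun := fun f => ⟨fun x => (f : Δ → ℂ) (x * g), fun z x => by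
        show (f : Δ → ℂ) ((z : Δ) * x * g) = (lam z : ℂ) * (f : Δ → ℂ) (x * g)
        rw [mul_assoc]; exact f.2 z (x * g)⟩
      map_add' := fun f h => rfl
      map_smul' := fun c f => rfl }
  let R0 : Δ →* (W →ₗ[ℂ] W) :=
    { toFun := op
      map_one' := LinearMap.ext fun f => Subtype.ext (funext fun x => by simp [op])
      map_mul' := fun g h => LinearMap.ext fun f => Subtype.ext (funext fun x => by
        simp [op, mul_assoc]) }
  let e := (LinearMap.toMatrixAlgEquiv (Module.finBasis ℂ W)).toMonoidHom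
  have hscal : ∀ z : Z, R0 z = (lam z : ℂ) • (1 : W →ₗ[ℂ] W) := by
    intro z
    refine LinearMap.ext fun f => Subtype.ext (funext fun x => ?_)
    show (f : Δ → ℂ) (x * z) = (lam z : ℂ) * (f : Δ → ℂ) x
    rw [mem_center_iff.1 (hZ z.2) x]
    exact f.2 z x
  refine ⟨_, (Units.map e).comp R0.toHomUnits, fun z => ?_, fun z hz => ?_⟩
  · refine mem_center_iff.2 fun B => Units.ext ?_
    show B.val * LinearMap.toMatrixAlgEquiv (Module.finBasis ℂ W) (R0 z) = LinearMap.toMatrixAlgEquiv (Module.finBasis ℂ W) (R0 z) * B.val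
    rw [hscal, map_smul, map_one, Matrix.mul_smul, mul_one, Matrix.smul_mul, one_mul]
  · have h1 : LinearMap.toMatrixAlgEquiv (Module.finBasis ℂ W) (R0 z) = 1 :=
      congrArg Units.val hz
    have h2 : R0 z = 1 := (LinearMap.toMatrixAlgEquiv _).injective (h1.trans (map_one _).symm)
    let f0 : W := ⟨fun x => if hx : x ∈ Z then (lam ⟨x, hx⟩ : ℂ) else 0, fun z x => by
      show dite _ _ _ = (lam z : ℂ) * dite _ _ _
      by_cases hx : x ∈ Z
      · rw [dif_pos (mul_mem z.2 hx), dif_pos hx,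
          show (⟨(z : Δ) * x, mul_mem z.2 hx⟩ : Z) = z * ⟨x, hx⟩ from rfl, map_mul, Units.val_mul]
      · rw [dif_neg (fun h => hx ((mul_mem_cancel_left z.2).1 h)), dif_neg hx, mul_zero]⟩
    have h3 := congrArg (fun f : W => (f : Δ → ℂ) 1) (LinearMap.congr_fun ((hscal z).symm.trans h2) f0)
    apply Units.ext
    simpa [f0, show (⟨1, one_mem Z⟩ : Z) = 1 from rfl] using h3

end CfsgLib.Schur
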