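import Cfsg.Agent.Schur.Basic
import Cfsg.Agent.Char.CenterValues
import Cfsg.Agent.Char.Orthogonality
import Mathlib.GroupTheory.FiniteAbelian.Duality
import Mathlib.RingTheory.RootsOfUnity.AlgebraicallyClosed

/-!
The square of the exponent of a central subgroup inside the derived group divides its index.
-/

set_option autoImplicit false
set_option linter.unusedSectionVars false
set_option linter.style.haveILetI false

namespace CfsgLib.Schur

open Subgroup CfsgLib.Char
open scoped ComplexConjugate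

universe u

theorem exponent_sq_dvd_index {G : Type u} [Group G] [Finite G] (Z : Subgroup G)
    (hc : Z ≤ center G) (hd : Z ≤ commutator G) : Monoid.exponent Z ^ 2 ∣ Z.index := by
  classical
  haveI := Fintype.ofFinite G
  letI : CommGroup Z := { (inferInstance : Group Z) with
    mul_comm := fun a b => Subtype.ext (mem_center_iff.1 (hc b.2) a) }
  obtain ⟨dual⟩ := CommGroup.monoidHom_mulEquiv_of_hasEnoughRootsOfUnity Z ℂ
  haveI : Finite (Z →* ℂˣ) := Finite.of_equiv _ dual.symm.toEquiv
  have hex : Monoid.ExponentExists (Z →* ℂˣ) :=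
    ⟨Nat.card (Z →* ℂˣ), Nat.card_pos, fun g => pow_card_eq_one'⟩
  obtain ⟨lam, hlam⟩ := Monoid.exists_orderOf_eq_exponent hex
  rw [Monoid.exponent_eq_of_mulEquiv dual] at hlam
  set e := Monoid.exponent Z
  -- each constituent
  have hstep : ∀ χ ∈ irrFinset G, ∃ d : ℕ, χ 1 = d ∧ (e ^ 2 ∣ d ^ 2 ∧
        ∑ z : Z, ((lam z : ℂ))⁻¹ * (χ z * conj (χ 1)) = (Nat.card Z * d ^ 2 : ℕ) ∨
      ∑ z : Z, ((lam z : ℂ))⁻¹ * (χ z * conj (χ 1)) = 0) := by
    intro χ hχ
    obtain ⟨n, ρ, hρ, rfl⟩ := id (mem_irrFinset.1 hχ)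
    haveI := hρ
    have hd1 : ρ.character 1 = n := by rw [ρ.char_one, Module.finrank_fin_fun]
    have hsc : ∀ z : Z, ∃ c : ℂ, ρ (z : G) = c • (1 : Module.End ℂ (Fin n → ℂ)) := fun z =>
      exists_scalar_of_mem_scalarSubgroup ρ (center_le_scalarSubgroup ρ (hc z.2))
    choose μ hμ using hsc
    have hn : 0 < n := by
      obtain ⟨m, hm, hm'⟩ := IsIrrCharacter.exists_degree (mem_irrFinset.1 hχ)
      rw [hd1] at hm'
      have : n = m := by exact_mod_cast hm'
      omega
    have hval : ∀ z : Z, ρ.character (z : G) = μ z * n := fun z => by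
      rw [Representation.character, hμ, map_smul, LinearMap.trace_one, Module.finrank_fin_fun,
        smul_eq_mul]
    have hμmul : ∀ a b : Z, μ (a * b) = μ a * μ b := fun a b => by
      refine mul_right_cancel₀ (b := (n : ℂ)) (by exact_mod_cast hn.ne') ?_
      rw [← hval, Representation.character, Subgroup.coe_mul, map_mul, hμ a, hμ b, smul_mul_smul_comm,
        mul_one, map_smul, LinearMap.trace_one, Module.finrank_fin_fun, smul_eq_mul]
    have hμ1 : μ 1 = 1 := by
      refine mul_right_cancel₀ (b := (n : ℂ)) (by exact_mod_cast hn.ne') ?_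
      rw [← hval, OneMemClass.coe_one, hd1, one_mul]
    have hdet : ∀ z : Z, μ z ^ n = 1 := fun z => by
      let D : G →* ℂ := (LinearMap.det : Module.End ℂ (Fin n → ℂ) →* ℂ).comp ρ
      have h := Abelianization.commutator_subset_ker D.toHomUnits (hd z.2)
      have h2 : D (z : G) = 1 := congrArg Units.val h
      have h3 : D (z : G) = LinearMap.det (ρ (z : G)) := rfl
      rw [h3, hμ, LinearMap.det_smul, map_one, mul_one, Module.finrank_fin_fun] at h2
      exact h2
    have hsum : ∀ z : Z, ((lam z : ℂ))⁻¹ * (ρ.character z * conj (ρ.character 1)) =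
        ((lam z : ℂ))⁻¹ * μ z * ((n : ℂ) ^ 2) := fun z => by
      rw [hval, hd1, Complex.conj_natCast]; ring
    refine ⟨n, hd1, ?_⟩
    simp only [hsum, ← Finset.sum_mul]
    by_cases hall : ∀ z : Z, (lam z : ℂ) = μ z
    · refine Or.inl ⟨pow_dvd_pow_of_dvd ?_ 2, ?_⟩
      · rw [← hlam]
        exact orderOf_dvd_of_pow_eq_one (MonoidHom.ext fun z => Units.ext (by
          simp [hall z, hdet z]))
      · rw [Finset.sum_congr rfl fun z _ => by rw [← hall z, inv_mul_cancel₀ (lam z).ne_zero],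
          Finset.sum_const, Finset.card_univ, nsmul_eq_mul, mul_one, ← Nat.card_eq_fintype_card]
        push_cast
        ring
    · push Not at hall
      obtain ⟨z₀, hz₀⟩ := hall
      right
      have h1 : (∑ z : Z, ((lam z : ℂ))⁻¹ * μ z) * (((lam z₀ : ℂ))⁻¹ * μ z₀) =
          ∑ z : Z, ((lam z : ℂ))⁻¹ * μ z := by
        rw [Finset.sum_mul]
        refine Fintype.sum_equiv (Equiv.mulRight z₀) _ _ fun z => ?_
        simp only [Equiv.coe_mulRight, map_mul, Units.val_mul, hμmul, mul_inv]
        ring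
      have h2 : ((lam z₀ : ℂ))⁻¹ * μ z₀ ≠ 1 := fun h => hz₀ ((inv_mul_eq_one₀ (lam z₀).ne_zero).1 h)
      rw [mul_eq_zero]
      exact Or.inl ((mul_right_eq_self₀.1 h1).resolve_left h2)
  -- averaged second orthogonality relation
  have htot : ∑ χ ∈ irrFinset G, ∑ z : Z, ((lam z : ℂ))⁻¹ * (χ z * conj (χ 1)) = Nat.card G := by
    rw [Finset.sum_comm]
    simp only [← Finset.mul_sum, sum_irr_mul_conj]
    rw [Finset.sum_eq_single (1 : Z)]
    · rw [if_pos (by rw [OneMemClass.coe_one]), map_one, Units.val_one, inv_one, one_mul,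
        OneMemClass.coe_one]
      congr 1
      rw [← card_top (G := G)]
      congr
      ext x; simp [mem_centralizer_singleton_iff]
    · intro z _ hz
      rw [if_neg, mul_zero]
      intro h
      exact hz (Subtype.ext ((isConj_one_left.1 h)))
    · intro h; exact absurd (Finset.mem_univ _) h
  choose! d hd1 hd2 using hstep
  let dd : (G → ℂ) → ℕ := fun χ =>
    if ∑ z : Z, ((lam z : ℂ))⁻¹ * (χ z * conj (χ 1)) = 0 then 0 else d χ ^ 2
  have hnat : ((Nat.card Z * ∑ χ ∈ irrFinset G, dd χ : ℕ) : ℂ) = Nat.card G := by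
    rw [← htot, Finset.mul_sum, Nat.cast_sum]
    refine Finset.sum_congr rfl fun χ hχ => ?_
    by_cases h0 : ∑ z : Z, ((lam z : ℂ))⁻¹ * (χ z * conj (χ 1)) = 0
    · simp [dd, h0]
    · simp only [dd, if_neg h0]
      exact ((hd2 χ hχ).resolve_right h0).2.symm
  have hnat' : Nat.card Z * ∑ χ ∈ irrFinset G, dd χ = Nat.card Z * Z.index := by
    rw [Z.card_mul_index]; exact_mod_cast hnat
  rw [← Nat.eq_of_mul_eq_mul_left Nat.card_pos hnat']
  refine Finset.dvd_sum fun χ hχ => ?_
  by_cases h0 : ∑ z : Z, ((lam z : ℂ))⁻¹ * (χ z * conj (χ 1)) = 0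
  · simp [dd, h0]
  · simp only [dd, if_neg h0]
    exact ((hd2 χ hχ).resolve_right h0).1

end CfsgLib.Schur
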