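import Cfsg.Prelude.Def_KGroupFacts
import Mathlib.GroupTheory.Schreier
import Mathlib.GroupTheory.FreeGroup.Basic
import Mathlib.GroupTheory.Finiteness
import Mathlib.LinearAlgebra.FreeModule.PID
import Mathlib.RingTheory.PrincipalIdealDomain
import Mathlib.Algebra.EuclideanDomain.Int
import Mathlib.Algebra.Module.Projective
import Mathlib.LinearAlgebra.Finsupp.VectorSpace
import Mathlib.Tactic.Group

/-!
The Schur multiplier of a finite group `Q` through `F / [F, R]`, `F` free on `Q`.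
-/

set_option autoImplicit false
set_option linter.unusedSectionVars false
set_option linter.style.haveILetI false

namespace CfsgLib.Schur

open Subgroup
open scoped commutatorElement

universe u v

section central

variable {G : Type u} [Group G]

theorem commutator_mul_central {a b z w : G} (hz : z ∈ center G) (hw : w ∈ center G) :
    ⁅a * z, b * w⁆ = ⁅a, b⁆ := by
  have h1 := mem_center_iff.1 hz
  have h2 := mem_center_iff.1 hw
  simp only [commutatorElement_def, mul_inv_rev]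
  calc a * z * (b * w) * (z⁻¹ * a⁻¹) * (w⁻¹ * b⁻¹)
      = a * (z * (b * w)) * z⁻¹ * a⁻¹ * (w⁻¹ * b⁻¹) := by group
    _ = a * (b * w) * a⁻¹ * (w⁻¹ * b⁻¹) := by rw [← h1]; group
    _ = a * b * (w * a⁻¹) * (w⁻¹ * b⁻¹) := by group
    _ = a * b * a⁻¹ * b⁻¹ := by rw [← h2]; group

theorem normal_of_le_center {C : Subgroup G} (h : C ≤ center G) : C.Normal :=
  ⟨fun x hx g => by rwa [mem_center_iff.1 (h hx) g, mul_inv_cancel_right]⟩

variable {E : Type v} [Group E] {Q : Type*} [Group Q]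

/-- Homomorphisms differing by central elements agree on the derived group. -/
theorem eqOn_commutator {σ : E →* Q} (hc : σ.ker ≤ center E) {f g : G →* E}
    (h : σ.comp f = σ.comp g) {x : G} (hx : x ∈ commutator G) : f x = g x := by
  have hle : commutator G ≤ f.eqLocus g := by
    rw [_root_.commutator_def, commutator_le]
    intro a _ b _
    show f ⁅a, b⁆ = g ⁅a, b⁆
    have hz : ∀ a, (g a)⁻¹ * f a ∈ center E := fun a => hc (by
      rw [MonoidHom.mem_ker, map_mul, map_inv, show σ (f a) = σ (g a) from DFunLike.congr_fun h a,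
        inv_mul_cancel])
    rw [map_commutatorElement, map_commutatorElement]
    conv_lhs => rw [show f a = g a * ((g a)⁻¹ * f a) by group,
      show f b = g b * ((g b)⁻¹ * f b) by group]
    exact commutator_mul_central (hz a) (hz b)
  exact hle hx

/-- A homomorphism onto `Q` covers the derived group of a central extension. -/
theorem commutator_le_map {σ : E →* Q} (hc : σ.ker ≤ center E) (f : G →* E)
    (hf : Function.Surjective (σ.comp f)) : commutator E ≤ (commutator G).map f := by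
  rw [_root_.commutator_def, commutator_le]
  intro a _ b _
  obtain ⟨x, hx⟩ := hf (σ a)
  obtain ⟨y, hy⟩ := hf (σ b)
  have hz : ∀ {a : E} {x : G}, (σ.comp f) x = σ a → (f x)⁻¹ * a ∈ center E := fun {a x} h => hc (by
    rw [MonoidHom.mem_ker, map_mul, map_inv, ← h, MonoidHom.comp_apply, inv_mul_cancel])
  rw [show a = f x * ((f x)⁻¹ * a) by group, show b = f y * ((f y)⁻¹ * b) by group,
    commutator_mul_central (hz hx) (hz hy), ← map_commutatorElement]
  exact mem_map_of_mem f (commutator_mem_commutator (mem_top _) (mem_top _))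

/-- A stem extension is reached by every lift of `Q`. -/
theorem surjective_of_stem {σ : E →* Q} (hc : σ.ker ≤ center E) (hd : σ.ker ≤ commutator E)
    (f : G →* E) (hf : Function.Surjective (σ.comp f)) : Function.Surjective f := by
  intro a
  obtain ⟨x, hx⟩ := hf (σ a)
  have h : (f x)⁻¹ * a ∈ σ.ker := by
    rw [MonoidHom.mem_ker, map_mul, map_inv, ← hx, MonoidHom.comp_apply, inv_mul_cancel]
  obtain ⟨y, -, hy⟩ := commutator_le_map hc f hf (hd h)
  exact ⟨x * y, by rw [map_mul, hy, mul_inv_cancel_left]⟩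

end central

variable (Q : Type u) [Group Q]

/-- The presentation map. -/
def pres : FreeGroup Q →* Q := FreeGroup.lift id

theorem pres_surjective : Function.Surjective (pres Q) := fun x =>
  ⟨FreeGroup.of x, by simp [pres]⟩

/-- `[F, R]`. -/
def relSub : Subgroup (FreeGroup Q) := ⁅(⊤ : Subgroup (FreeGroup Q)), (pres Q).ker⁆

instance relSub_normal : (relSub Q).Normal := by unfold relSub; infer_instance

theorem relSub_le : relSub Q ≤ (pres Q).ker := commutator_le_right ⊤ _

/-- `F / [F, R]`. -/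
abbrev Fb : Type u := FreeGroup Q ⧸ relSub Q

/-- The map `F / [F, R] → Q`. -/
def proj : Fb Q →* Q := QuotientGroup.lift (relSub Q) (pres Q) (relSub_le Q)

theorem proj_mk (f : FreeGroup Q) : proj Q (QuotientGroup.mk f) = pres Q f := rfl

theorem proj_surjective : Function.Surjective (proj Q) := fun x => by
  obtain ⟨f, hf⟩ := pres_surjective Q x
  exact ⟨QuotientGroup.mk f, hf⟩

theorem ker_proj_le_center : (proj Q).ker ≤ center (Fb Q) := by
  intro t ht
  obtain ⟨r, rfl⟩ := QuotientGroup.mk_surjective t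
  rw [mem_center_iff]
  intro x
  obtain ⟨f, rfl⟩ := QuotientGroup.mk_surjective x
  rw [← commutatorElement_eq_one_iff_mul_comm]
  exact (QuotientGroup.eq_one_iff ⁅f, r⁆).2
    (commutator_mem_commutator (mem_top f) (show r ∈ (pres Q).ker from ht))

/-- `M(Q) = (R ∩ F') / [F, R]`. -/
abbrev mult : Subgroup (Fb Q) := (proj Q).ker ⊓ commutator (Fb Q)

instance multCommGroup : CommGroup ↥(mult Q) :=
  { (inferInstance : Group ↥(mult Q)) with
    mul_comm := fun a b => Subtype.ext (mem_center_iff.1 (ker_proj_le_center Q b.2.1) a) }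

/-- The universal property. -/
theorem exists_hom {E : Type v} [Group E] (σ : E →* Q) (hs : Function.Surjective σ)
    (hc : σ.ker ≤ center E) : ∃ ψ : Fb Q →* E, σ.comp ψ = proj Q := by
  choose s hs using hs
  let φ : FreeGroup Q →* E := FreeGroup.lift s
  have hφ : σ.comp φ = pres Q := FreeGroup.ext_hom _ _ fun x => by simp [φ, pres, hs]
  have hle : relSub Q ≤ φ.ker := by
    unfold relSub
    rw [commutator_le]
    intro g _ r hr
    rw [MonoidHom.mem_ker, map_commutatorElement, commutatorElement_eq_one_iff_mul_comm]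
    exact mem_center_iff.1 (hc (show σ (φ r) = 1 by
      rw [← MonoidHom.comp_apply, hφ]; exact hr)) _
  exact ⟨QuotientGroup.lift _ φ hle, MonoidHom.ext fun x => by
    obtain ⟨f, rfl⟩ := QuotientGroup.mk_surjective x
    exact DFunLike.congr_fun hφ f⟩

/-- `M(Q)` maps onto `ker ∩ [E, E]`. -/
theorem map_mult {E : Type v} [Group E] (σ : E →* Q) (hc : σ.ker ≤ center E) (ψ : Fb Q →* E)
    (hψ : σ.comp ψ = proj Q) : (mult Q).map ψ = σ.ker ⊓ commutator E := by
  have hf : Function.Surjective (σ.comp ψ) := hψ ▸ proj_surjective Q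
  refine le_antisymm ?_ ?_
  · rintro _ ⟨m, hm, rfl⟩
    refine ⟨?_, ?_⟩
    · show σ (ψ m) = 1
      rw [← MonoidHom.comp_apply, hψ]; exact hm.1
    · have h : ψ m ∈ (commutator (Fb Q)).map ψ := mem_map_of_mem ψ hm.2
      rw [_root_.commutator_def, map_commutator] at h
      rw [_root_.commutator_def]
      exact commutator_mono le_top le_top h
  · intro z hz
    obtain ⟨m, hm, rfl⟩ := commutator_le_map hc ψ hf hz.2
    refine ⟨m, ⟨?_, hm⟩, rfl⟩
    show proj Q m = 1
    rw [← hψ]; exact hz.1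

/-- The map `M(Q) → ker σ` for a lift `ψ`. -/
def multMap {E : Type v} [Group E] (σ : E →* Q) (ψ : Fb Q →* E) (hψ : σ.comp ψ = proj Q) :
    ↥(mult Q) →* ↥σ.ker :=
  (ψ.comp (mult Q).subtype).codRestrict σ.ker fun m => by
    show σ (ψ m) = 1
    rw [← MonoidHom.comp_apply, hψ]; exact m.2.1

theorem coe_multMap {E : Type v} [Group E] (σ : E →* Q) (ψ : Fb Q →* E)
    (hψ : σ.comp ψ = proj Q) (m : mult Q) : (multMap Q σ ψ hψ m : E) = ψ m := rfl

theorem multMap_surjective {E : Type v} [Group E] (σ : E →* Q) (hc : σ.ker ≤ center E)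
    (hd : σ.ker ≤ commutator E) (ψ : Fb Q →* E) (hψ : σ.comp ψ = proj Q) :
    Function.Surjective (multMap Q σ ψ hψ) := by
  rintro ⟨z, hz⟩
  obtain ⟨m, hm, hmz⟩ := (map_mult Q σ hc ψ hψ).ge ⟨hz, hd hz⟩
  exact ⟨⟨m, hm⟩, Subtype.ext hmz⟩

variable [Finite Q]

instance finite_commutatorSet : Finite (commutatorSet (Fb Q)) := by
  choose s hs using proj_surjective Q
  have h : commutatorSet (Fb Q) ⊆ Set.range fun q : Q × Q => ⁅s q.1, s q.2⁆ := by
    rintro _ ⟨a, b, rfl⟩
    refine ⟨(proj Q a, proj Q b), ?_⟩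
    have hz : ∀ a, (s (proj Q a))⁻¹ * a ∈ center (Fb Q) := fun a => ker_proj_le_center Q (by
      rw [MonoidHom.mem_ker, map_mul, map_inv, hs, inv_mul_cancel])
    show ⁅s (proj Q a), s (proj Q b)⁆ = ⁅a, b⁆
    conv_rhs => rw [show a = s (proj Q a) * ((s (proj Q a))⁻¹ * a) by group,
      show b = s (proj Q b) * ((s (proj Q b))⁻¹ * b) by group]
    exact (commutator_mul_central (hz a) (hz b)).symm
  exact ((Set.finite_range _).subset h).to_subtype

instance finite_mult : Finite ↥(mult Q) :=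
  Finite.of_injective (fun m => (⟨m.1, m.2.2⟩ : commutator (Fb Q))) fun a b h =>
    Subtype.ext (congrArg (fun z : commutator (Fb Q) => (z : Fb Q)) h)

/-- Exponent sums detect the derived group. -/
theorem exists_exponentMap :
    ∃ abK : Fb Q →* Multiplicative (Q → ℤ), ∀ x, abK x = 1 ↔ x ∈ commutator (Fb Q) := by
  classical
  haveI := Fintype.ofFinite Q
  let ab : FreeGroup Q →* Multiplicative (Q → ℤ) :=
    FreeGroup.lift fun i => Multiplicative.ofAdd (Pi.single i 1)
  let abK : Fb Q →* Multiplicative (Q → ℤ) := QuotientGroup.lift (relSub Q) ab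
    ((commutator_mono le_rfl le_top).trans (by
      rw [← _root_.commutator_def]; exact Abelianization.commutator_subset_ker ab))
  refine ⟨abK, fun x => ⟨fun hx => ?_, fun hx => Abelianization.commutator_subset_ker abK hx⟩⟩
  obtain ⟨f, rfl⟩ := QuotientGroup.mk_surjective x
  let g : (Q → ℤ) →+ Additive (Abelianization (FreeGroup Q)) :=
    { toFun := fun v => ∑ i, v i • Additive.ofMul (Abelianization.of (FreeGroup.of i))
      map_zero' := by simp
      map_add' := fun u v => by simp [add_smul, Finset.sum_add_distrib] }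
  have heq : (AddMonoidHom.toMultiplicativeLeft g).comp ab = Abelianization.of := by
    refine FreeGroup.ext_hom _ _ fun i => ?_
    show (g (ab (FreeGroup.of i)).toAdd).toMul = _
    simp [g, ab, Pi.single_apply, ite_smul]
  have h1 : Abelianization.of f = 1 := by
    rw [← heq, MonoidHom.comp_apply, show ab f = 1 from hx, map_one]
  have h2 : f ∈ commutator (FreeGroup Q) := (QuotientGroup.eq_one_iff f).1 h1
  rw [_root_.commutator_def, ← map_top_of_surjective (QuotientGroup.mk' (relSub Q))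
    (QuotientGroup.mk'_surjective _), ← map_commutator, ← _root_.commutator_def]
  exact ⟨f, h2, rfl⟩

/-- A complement of `M(Q)` in `R / [F, R]` inside a prescribed supplement. -/
theorem exists_compl (T : Subgroup (Fb Q)) (hT : T ≤ (proj Q).ker)
    (hsupp : ∀ t ∈ (proj Q).ker, ∃ t' ∈ T, t'⁻¹ * t ∈ mult Q) :
    ∃ C : Subgroup (Fb Q), C ≤ T ∧ C ⊓ commutator (Fb Q) = ⊥ ∧
      ∀ t ∈ (proj Q).ker, ∃ c ∈ C, c⁻¹ * t ∈ mult Q := by
  classical
  haveI := Fintype.ofFinite Q
  obtain ⟨abK, hab⟩ := exists_exponentMap Q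
  letI : CommGroup T := { (inferInstance : Group T) with
    mul_comm := fun a b => Subtype.ext (mem_center_iff.1 (ker_proj_le_center Q (hT b.2)) a) }
  let f : Additive T →ₗ[ℤ] (Q → ℤ) :=
    (MonoidHom.toAdditiveLeft (abK.comp T.subtype)).toIntLinearMap
  obtain ⟨s, hs⟩ := Module.projective_lifting_property f.rangeRestrict LinearMap.id
    f.surjective_rangeRestrict
  have hsv : ∀ v, f.rangeRestrict (s v) = v := fun v => LinearMap.congr_fun hs v
  let C : Subgroup (Fb Q) :=
    { carrier := {x | ∃ v, ((s v).toMul : Fb Q) = x}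
      mul_mem' := by
        rintro _ _ ⟨a, rfl⟩ ⟨b, rfl⟩
        exact ⟨a + b, by rw [map_add]; rfl⟩
      one_mem' := ⟨0, by rw [map_zero]; rfl⟩
      inv_mem' := by
        rintro _ ⟨a, rfl⟩
        exact ⟨-a, by rw [map_neg]; rfl⟩ }
  refine ⟨C, ?_, (eq_bot_iff_forall _).2 ?_, fun t ht => ?_⟩
  · rintro _ ⟨v, rfl⟩; exact (s v).toMul.2
  · rintro _ ⟨⟨v, rfl⟩, hv⟩
    have h2 : abK ((s v).toMul : Fb Q) = 1 := (hab _).2 hv
    have h3 : v = 0 := by
      rw [← hsv v]
      exact Subtype.ext (congrArg Multiplicative.toAdd h2)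
    rw [h3, map_zero]; rfl
  · obtain ⟨t', ht', htm⟩ := hsupp t ht
    obtain ⟨v, hv⟩ : ∃ v, v = f.rangeRestrict (Additive.ofMul ⟨t', ht'⟩) := ⟨_, rfl⟩
    refine ⟨((s v).toMul : Fb Q), ⟨v, rfl⟩, ⟨(proj Q).ker.mul_mem ((proj Q).ker.inv_mem (hT (s v).toMul.2)) ht, ?_⟩⟩
    have h1 : abK ((s v).toMul : Fb Q) = abK t' :=
      congrArg Multiplicative.ofAdd (congrArg Subtype.val ((hsv v).trans hv))
    rw [show ((s v).toMul : Fb Q)⁻¹ * t = (((s v).toMul : Fb Q)⁻¹ * t') * (t'⁻¹ * t) by group]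
    refine mul_mem ((hab _).1 ?_) htm.2
    rw [map_mul, map_inv, h1, inv_mul_cancel]

/-- Dividing by a complement gives a covering group. -/
theorem cover_of_compl (C : Subgroup (Fb Q)) (hC : C ≤ (proj Q).ker)
    (hd : C ⊓ commutator (Fb Q) = ⊥) (hs : ∀ t ∈ (proj Q).ker, ∃ c ∈ C, c⁻¹ * t ∈ mult Q) :
    ∃ (Γ : Type u) (_ : Group Γ) (_ : Finite Γ) (q : Fb Q →* Γ) (σ : Γ →* Q)
      (hq : σ.comp q = proj Q), Cfsg.IsStemExtension σ ∧ Function.Surjective q ∧ q.ker = C ∧
      Function.Bijective (multMap Q σ q hq) := by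
  haveI : C.Normal := normal_of_le_center (hC.trans (ker_proj_le_center Q))
  let q : Fb Q →* Fb Q ⧸ C := QuotientGroup.mk' C
  let σ : Fb Q ⧸ C →* Q := QuotientGroup.lift C (proj Q) hC
  have hqs : Function.Surjective q := QuotientGroup.mk'_surjective C
  have hσq : σ.comp q = proj Q := MonoidHom.ext fun _ => rfl
  have hker : ∀ y ∈ σ.ker, ∃ m ∈ mult Q, q m = y := by
    intro y hy
    obtain ⟨t, rfl⟩ := hqs y
    obtain ⟨c, hc, hm⟩ := hs t hy
    exact ⟨_, hm, by rw [map_mul, map_inv, show q c = 1 from (QuotientGroup.eq_one_iff c).2 hc,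
      inv_one, one_mul]⟩
  have hbij : Function.Bijective (multMap Q σ q hσq) := by
    refine ⟨(injective_iff_map_eq_one _).2 fun m hm => ?_, fun y => ?_⟩
    · have h1 : (m : Fb Q) ∈ C := (QuotientGroup.eq_one_iff _).1 (congrArg Subtype.val hm)
      exact Subtype.ext (mem_bot.1 (hd ▸ (⟨h1, m.2.2⟩ : (m : Fb Q) ∈ C ⊓ commutator (Fb Q))))
    · obtain ⟨m, hm, hmy⟩ := hker y y.2
      exact ⟨⟨m, hm⟩, Subtype.ext hmy⟩
  haveI : Finite σ.ker := Finite.of_equiv _ (Equiv.ofBijective _ hbij)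
  haveI : Finite (Fb Q ⧸ C) := by
    haveI : Finite ((Fb Q ⧸ C) ⧸ σ.ker) :=
      Finite.of_injective (QuotientGroup.kerLift σ) (QuotientGroup.kerLift_injective σ)
    exact Finite.of_equiv _ (Subgroup.groupEquivQuotientProdSubgroup (s := σ.ker)).symm
  refine ⟨Fb Q ⧸ C, inferInstance, inferInstance, q, σ, hσq, ⟨fun x => ?_, fun y hy => ?_, fun y hy => ?_⟩,
    hqs, QuotientGroup.ker_mk' C, hbij⟩
  · obtain ⟨t, ht⟩ := proj_surjective Q x
    exact ⟨q t, ht⟩
  · obtain ⟨m, hm, rfl⟩ := hker y hy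
    rw [mem_center_iff]
    intro z
    obtain ⟨b, rfl⟩ := hqs z
    rw [← map_mul, ← map_mul, mem_center_iff.1 (ker_proj_le_center Q hm.1) b]
  · obtain ⟨m, hm, rfl⟩ := hker y hy
    have h : q m ∈ (commutator (Fb Q)).map q := mem_map_of_mem q hm.2
    rw [_root_.commutator_def, map_commutator, map_top_of_surjective q hqs] at h
    rwa [_root_.commutator_def]

theorem hasSchurMultiplier_mult : Cfsg.HasSchurMultiplier Q ↥(mult Q) := by
  obtain ⟨C, hC, hd, hs⟩ := exists_compl Q (proj Q).ker le_rfl fun t ht => ⟨t, ht, by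
    rw [inv_mul_cancel]; exact one_mem _⟩
  obtain ⟨Γ, i1, i2, q, σ, hq, hstem, -, -, hbij⟩ := cover_of_compl Q C hC hd hs
  refine ⟨⟨Γ, i1, i2, σ, hstem, ⟨(MulEquiv.ofBijective _ hbij).symm⟩⟩, ?_⟩
  intro Δ _ _ τ hτ
  obtain ⟨ψ, hψ⟩ := exists_hom Q τ hτ.1 hτ.2.1
  exact ⟨multMap Q τ ψ hψ, multMap_surjective Q τ hτ.2.1 hτ.2.2 ψ hψ⟩

/-- The multiplier is determined by the definition. -/
theorem equiv_mult {A : Type v} [CommGroup A] (hA : Cfsg.HasSchurMultiplier Q A) :
    Nonempty (A ≃* ↥(mult Q)) := by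
  obtain ⟨⟨Γ, _, _, σ, hσ, ⟨e⟩⟩, hA2⟩ := id hA
  haveI : Finite A := Finite.of_equiv _ e.toEquiv
  obtain ⟨ψ, hψ⟩ := exists_hom Q σ hσ.1 hσ.2.1
  have h1 : Function.Surjective (e.toMonoidHom.comp (multMap Q σ ψ hψ)) :=
    e.surjective.comp (multMap_surjective Q σ hσ.2.1 hσ.2.2 ψ hψ)
  obtain ⟨⟨Γ', _, _, σ', hσ', ⟨e'⟩⟩, -⟩ := hasSchurMultiplier_mult Q
  obtain ⟨π, hπ⟩ := hA2 Γ' σ' hσ'
  have h2 : Function.Surjective (e'.toMonoidHom.comp π) := e'.surjective.comp hπ
  refine ⟨MulEquiv.ofBijective (e'.toMonoidHom.comp π) ?_⟩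
  refine (Nat.bijective_iff_surjective_and_card _).2 ⟨h2, ?_⟩
  exact le_antisymm (Nat.card_le_card_of_surjective _ h1) (Nat.card_le_card_of_surjective _ h2)

/-- A lift to a covering group is onto, with kernel a complement of `M(Q)`. -/
theorem cover_facts {A : Type v} [CommGroup A] (hA : Cfsg.HasSchurMultiplier Q A)
    {Γ : Type*} [Group Γ] [Finite Γ] (σ : Γ →* Q) (hσ : Cfsg.IsStemExtension σ)
    (hk : Nonempty (σ.ker ≃* A)) (ψ : Fb Q →* Γ) (hψ : σ.comp ψ = proj Q) :
    Function.Surjective ψ ∧ ψ.ker ≤ (proj Q).ker ∧ ψ.ker ⊓ commutator (Fb Q) = ⊥ ∧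
      (∀ t ∈ (proj Q).ker, ∃ c ∈ ψ.ker, c⁻¹ * t ∈ mult Q) ∧
      Function.Bijective (multMap Q σ ψ hψ) := by
  obtain ⟨e⟩ := equiv_mult Q hA
  obtain ⟨k⟩ := hk
  have hsurj := multMap_surjective Q σ hσ.2.1 hσ.2.2 ψ hψ
  have hbij : Function.Bijective (multMap Q σ ψ hψ) :=
    (Nat.bijective_iff_surjective_and_card _).2 ⟨hsurj, Nat.card_congr (k.trans e).symm.toEquiv⟩
  have hle : ψ.ker ≤ (proj Q).ker := fun x hx => by
    show proj Q x = 1
    rw [← hψ, MonoidHom.comp_apply, show ψ x = 1 from hx, map_one]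
  refine ⟨surjective_of_stem hσ.2.1 hσ.2.2 ψ (hψ ▸ proj_surjective Q), hle, ?_, ?_, hbij⟩
  · refine (eq_bot_iff_forall _).2 fun x hx => ?_
    have h := hbij.1 (show multMap Q σ ψ hψ ⟨x, hle hx.1, hx.2⟩ = multMap Q σ ψ hψ 1 from
      Subtype.ext (by rw [map_one, OneMemClass.coe_one]; exact hx.1))
    exact congrArg Subtype.val h
  · intro t ht
    obtain ⟨m, hm⟩ := hsurj ⟨ψ t, show σ (ψ t) = 1 by rw [← MonoidHom.comp_apply, hψ]; exact ht⟩
    refine ⟨t * (m : Fb Q)⁻¹, ?_, ?_⟩
    · rw [MonoidHom.mem_ker, map_mul, map_inv, show ψ m = ψ t from congrArg Subtype.val hm,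
        mul_inv_cancel]
    · rw [mul_inv_rev, inv_inv, inv_mul_cancel_right]; exact m.2

end CfsgLib.Schur
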