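import Cfsg.Agent.FGSB.CentralExtMult
import Mathlib.GroupTheory.Abelianization.Defs
import Mathlib.Algebra.Group.MinimalAxioms
import Mathlib.GroupTheory.FiniteAbelian.Basic
import Mathlib.LinearAlgebra.TensorProduct.Basic
import Mathlib.RingTheory.TensorProduct.Finite
import Mathlib.RingTheory.Finiteness.Basic

/-!
The Schur multiplier of a direct product.
-/

set_option autoImplicit false
set_option linter.unusedSectionVars false
set_option linter.style.haveILetI false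

namespace CfsgLib.SchurProduct

open Subgroup
open scoped commutatorElement TensorProduct

universe u v w z

/-- A bilinear central extension of a direct product. -/
@[ext]
structure BilExt {G₁ : Type u} {G₂ : Type v} {T : Type z} [Group G₁] [Group G₂] [CommGroup T]
    (β : G₁ →* G₂ →* T) : Type max u v z where
  /-- first coordinate -/
  fst : G₁
  /-- second coordinate -/
  snd : G₂
  /-- central coordinate -/
  cen : T

namespace BilExt

variable {G₁ : Type u} {G₂ : Type v} {T : Type z} [Group G₁] [Group G₂] [CommGroup T]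
  {β : G₁ →* G₂ →* T}

instance : Mul (BilExt β) :=
  ⟨fun a b => ⟨a.fst * b.fst, a.snd * b.snd, a.cen * b.cen * β b.fst a.snd⟩⟩

instance : One (BilExt β) := ⟨⟨1, 1, 1⟩⟩

instance : Inv (BilExt β) := ⟨fun a => ⟨a.fst⁻¹, a.snd⁻¹, a.cen⁻¹ * β a.fst a.snd⟩⟩

@[simp] theorem mul_fst (a b : BilExt β) : (a * b).fst = a.fst * b.fst := rfl
@[simp] theorem mul_snd (a b : BilExt β) : (a * b).snd = a.snd * b.snd := rfl
@[simp] theorem mul_cen (a b : BilExt β) :
    (a * b).cen = a.cen * b.cen * β b.fst a.snd := rfl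
@[simp] theorem one_fst : (1 : BilExt β).fst = 1 := rfl
@[simp] theorem one_snd : (1 : BilExt β).snd = 1 := rfl
@[simp] theorem one_cen : (1 : BilExt β).cen = 1 := rfl
@[simp] theorem inv_fst (a : BilExt β) : a⁻¹.fst = a.fst⁻¹ := rfl
@[simp] theorem inv_snd (a : BilExt β) : a⁻¹.snd = a.snd⁻¹ := rfl
@[simp] theorem inv_cen (a : BilExt β) : a⁻¹.cen = a.cen⁻¹ * β a.fst a.snd := rfl

instance : Group (BilExt β) :=
  Group.ofLeftAxioms
    (fun a b c => BilExt.ext (by simp [mul_assoc]) (by simp [mul_assoc]) (by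
      simp [mul_assoc, mul_left_comm, mul_comm]))
    (fun a => BilExt.ext (by simp) (by simp) (by simp))
    (fun a => BilExt.ext (by simp) (by simp) (by simp [mul_assoc, mul_left_comm]))

instance [Finite G₁] [Finite G₂] [Finite T] : Finite (BilExt β) :=
  Finite.of_injective (fun a => (a.fst, a.snd, a.cen)) fun a b h => by
    simp only [Prod.mk.injEq] at h
    exact BilExt.ext h.1 h.2.1 h.2.2

/-- The first factor inside. -/
def inl : G₁ →* BilExt β :=
  MonoidHom.mk' (fun a => ⟨a, 1, 1⟩) fun a b => BilExt.ext (by simp) (by simp) (by simp)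

/-- The second factor inside. -/
def inr : G₂ →* BilExt β :=
  MonoidHom.mk' (fun b => ⟨1, b, 1⟩) fun a b => BilExt.ext (by simp) (by simp) (by simp)

/-- The central factor inside. -/
def inc : T →* BilExt β :=
  MonoidHom.mk' (fun t => ⟨1, 1, t⟩) fun a b => BilExt.ext (by simp) (by simp) (by simp)

/-- Forgetting the central coordinate. -/
def proj : BilExt β →* G₁ × G₂ :=
  MonoidHom.mk' (fun a => (a.fst, a.snd)) fun _ _ => rfl

theorem commutator_inr_inl (a : G₁) (b : G₂) :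
    ⁅inr (β := β) b, inl (β := β) a⁆ = inc (β a b) := by
  have h : (inr b : BilExt β) * inl a = inc (β a b) * (inl a * inr b) :=
    BilExt.ext (by simp [inl, inr, inc]) (by simp [inl, inr, inc]) (by simp [inl, inr, inc])
  rw [commutatorElement_def, h]
  group

theorem decomp (a : BilExt β) : a = inl a.fst * inr a.snd * inc a.cen :=
  BilExt.ext (by simp [inl, inr, inc]) (by simp [inl, inr, inc]) (by simp [inl, inr, inc])

end BilExt

variable {Q₁ : Type u} {Q₂ : Type v} [Group Q₁] [Group Q₂]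

/-- `Q₁ᵃᵇ ⊗ Q₂ᵃᵇ`, written multiplicatively. -/
abbrev Tens (Q₁ : Type u) (Q₂ : Type v) [Group Q₁] [Group Q₂] : Type max u v :=
  Multiplicative (TensorProduct ℤ (Additive (Abelianization Q₁)) (Additive (Abelianization Q₂)))

/-- The pure tensor of two elements. -/
def pureT (a : Q₁) (b : Q₂) : Tens Q₁ Q₂ :=
  Multiplicative.ofAdd (Additive.ofMul (Abelianization.of a) ⊗ₜ[ℤ] Additive.ofMul (Abelianization.of b))

/-- The pairing. -/
def pairing : Q₁ →* Q₂ →* Tens Q₁ Q₂ :=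
  MonoidHom.mk' (fun a => MonoidHom.mk' (pureT a) fun b b' => by
    show pureT a (b * b') = pureT a b * pureT a b'
    unfold pureT
    rw [← ofAdd_add, ← TensorProduct.tmul_add, map_mul, ofMul_mul]) fun a a' => by
    refine MonoidHom.ext fun b => ?_
    show pureT (a * a') b = pureT a b * pureT a' b
    unfold pureT
    rw [← ofAdd_add, ← TensorProduct.add_tmul, map_mul, ofMul_mul]

theorem pairing_apply (a : Q₁) (b : Q₂) : pairing a b = pureT a b := rfl

theorem closure_pureT :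
    Subgroup.closure (Set.range fun x : Q₁ × Q₂ => pureT x.1 x.2) = ⊤ := by
  refine eq_top_iff.2 fun t _ => ?_
  rw [← ofAdd_toAdd t]
  generalize t.toAdd = s
  induction s using TensorProduct.induction_on with
  | zero => exact one_mem _
  | tmul a b =>
    obtain ⟨a', ha⟩ : ∃ a' : Q₁, Abelianization.of a' = a.toMul := QuotientGroup.mk_surjective _
    obtain ⟨b', hb⟩ : ∃ b' : Q₂, Abelianization.of b' = b.toMul := QuotientGroup.mk_surjective _
    refine Subgroup.subset_closure ⟨(a', b'), ?_⟩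
    show Multiplicative.ofAdd (Additive.ofMul (Abelianization.of a') ⊗ₜ[ℤ]
      Additive.ofMul (Abelianization.of b')) = _
    rw [ha, hb, ofMul_toMul, ofMul_toMul]
  | add x y hx hy => exact mul_mem hx hy

instance finite_tens [Finite Q₁] [Finite Q₂] : Finite (Tens Q₁ Q₂) := by
  haveI : Finite (Abelianization Q₁) :=
    Finite.of_surjective (Abelianization.of (G := Q₁)) fun x => QuotientGroup.mk_surjective x
  haveI : Finite (Abelianization Q₂) :=
    Finite.of_surjective (Abelianization.of (G := Q₂)) fun x => QuotientGroup.mk_surjective x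
  haveI : Finite (Additive (Abelianization Q₁)) := Finite.of_equiv _ Additive.ofMul
  haveI : Finite (Additive (Abelianization Q₂)) := Finite.of_equiv _ Additive.ofMul
  suffices Finite (TensorProduct ℤ (Additive (Abelianization Q₁)) (Additive (Abelianization Q₂))) from
    Finite.of_equiv _ Multiplicative.ofAdd
  haveI : Module.Finite ℤ (Additive (Abelianization Q₁)) := Module.Finite.of_finite
  haveI : Module.Finite ℤ (Additive (Abelianization Q₂)) := Module.Finite.of_finite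
  haveI : Module.Finite ℤ
      (TensorProduct ℤ (Additive (Abelianization Q₁)) (Additive (Abelianization Q₂))) :=
    Module.Finite.tensorProduct ℤ _ _
  refine Module.finite_of_fg_torsion _ fun {x} => ?_
  refine ⟨⟨(Nat.card (Additive (Abelianization Q₁)) : ℤ),
    mem_nonZeroDivisors_of_ne_zero (by exact_mod_cast Nat.card_pos.ne')⟩, ?_⟩
  show (Nat.card (Additive (Abelianization Q₁)) : ℤ) • x = 0
  induction x using TensorProduct.induction_on with
  | zero => simp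
  | tmul a b =>
    rw [TensorProduct.smul_tmul', natCast_zsmul, card_nsmul_eq_zero', TensorProduct.zero_tmul]
  | add x y hx hy => rw [smul_add, hx, hy, add_zero]

/-- The universal property of the pairing. -/
theorem exists_lift {K : Type z} [CommGroup K] (P : Q₁ →* Q₂ →* K) :
    ∃ j : Tens Q₁ Q₂ →* K, ∀ a b, j (pureT a b) = P a b := by
  let P₂ : Abelianization Q₁ →* Abelianization Q₂ →* K :=
    (Abelianization.lift (Abelianization.lift P).flip).flip
  let L : Additive (Abelianization Q₁) →+ Additive (Abelianization Q₂) →+ Additive K :=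
    AddMonoidHom.mk' (fun a => MonoidHom.toAdditive (P₂ a.toMul)) fun a b => by
      refine AddMonoidHom.ext fun c => ?_
      show Additive.ofMul (P₂ (a.toMul * b.toMul) c.toMul) = _
      rw [map_mul, MonoidHom.mul_apply]
      rfl
  have hL : ∀ (r : ℤ) m n, L (r • m) n = L m (r • n) := fun r m n => by
    rw [map_zsmul L, map_zsmul (L m), AddMonoidHom.smul_apply]
  refine ⟨AddMonoidHom.toMultiplicativeLeft (TensorProduct.liftAddHom L hL), fun a b => ?_⟩
  show (TensorProduct.liftAddHom L hL (_ ⊗ₜ[ℤ] _)).toMul = P a b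
  rw [TensorProduct.liftAddHom_tmul]
  show P₂ (Abelianization.of a) (Abelianization.of b) = P a b
  simp [P₂]

theorem product [Finite Q₁] [Finite Q₂] {A B : Type w} [CommGroup A] [CommGroup B]
    (hA : Cfsg.HasSchurMultiplier Q₁ A) (hB : Cfsg.HasSchurMultiplier Q₂ B) :
    Cfsg.HasSchurMultiplier (Q₁ × Q₂) (A × B × Tens Q₁ Q₂) := by
  classical
  obtain ⟨⟨G₁, _, _, s₁, ⟨hs1, hc1, hd1⟩, ⟨e₁⟩⟩, -⟩ := id hA
  obtain ⟨⟨G₂, _, _, s₂, ⟨hs2, hc2, hd2⟩, ⟨e₂⟩⟩, -⟩ := id hB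
  let β : G₁ →* G₂ →* Tens Q₁ Q₂ := ((pairing (Q₁ := Q₁) (Q₂ := Q₂)).comp s₁).compl₂ s₂
  have hβ : ∀ a b, β a b = pureT (s₁ a) (s₂ b) := fun a b => rfl
  have hβ1 : ∀ a ∈ s₁.ker, ∀ b, β a b = 1 := fun a ha b => by
    rw [hβ, show s₁ a = 1 from ha, ← pairing_apply, map_one, MonoidHom.one_apply]
  have hβ2 : ∀ b ∈ s₂.ker, ∀ a, β a b = 1 := fun b hb a => by
    rw [hβ, show s₂ b = 1 from hb, ← pairing_apply, map_one]
  let π : BilExt β →* Q₁ × Q₂ := (s₁.prodMap s₂).comp BilExt.proj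
  have hker : ∀ a : BilExt β, a ∈ π.ker ↔ a.fst ∈ s₁.ker ∧ a.snd ∈ s₂.ker := fun a =>
    Prod.mk_eq_one
  refine ⟨⟨BilExt β, inferInstance, inferInstance, π, ⟨?_, ?_, ?_⟩, ⟨?_⟩⟩, ?_⟩
  · intro x
    obtain ⟨a, ha⟩ := hs1 x.1
    obtain ⟨b, hb⟩ := hs2 x.2
    exact ⟨⟨a, b, 1⟩, Prod.ext ha hb⟩
  · intro a ha
    obtain ⟨ha1, ha2⟩ := (hker a).1 ha
    rw [mem_center_iff]
    intro b
    refine BilExt.ext (mem_center_iff.1 (hc1 ha1) b.fst) (mem_center_iff.1 (hc2 ha2) b.snd) ?_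
    rw [BilExt.mul_cen, BilExt.mul_cen, hβ1 _ ha1, hβ2 _ ha2, mul_one, mul_one, mul_comm]
  · intro a ha
    obtain ⟨ha1, ha2⟩ := (hker a).1 ha
    rw [BilExt.decomp a]
    refine mul_mem (mul_mem ?_ ?_) ?_
    · have h : BilExt.inl a.fst ∈ (commutator G₁).map (BilExt.inl (β := β)) :=
        mem_map_of_mem _ (hd1 ha1)
      rw [_root_.commutator_def, map_commutator] at h
      rw [_root_.commutator_def]
      exact commutator_mono le_top le_top h
    · have h : BilExt.inr a.snd ∈ (commutator G₂).map (BilExt.inr (β := β)) :=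
        mem_map_of_mem _ (hd2 ha2)
      rw [_root_.commutator_def, map_commutator] at h
      rw [_root_.commutator_def]
      exact commutator_mono le_top le_top h
    · have hle : Subgroup.closure (Set.range fun x : Q₁ × Q₂ => pureT x.1 x.2) ≤
          (commutator (BilExt β)).comap BilExt.inc := by
        rw [closure_le]
        rintro _ ⟨⟨q, r⟩, rfl⟩
        obtain ⟨x, rfl⟩ := hs1 q
        obtain ⟨y, rfl⟩ := hs2 r
        show BilExt.inc (β x y) ∈ commutator (BilExt β)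
        rw [← BilExt.commutator_inr_inl]
        exact commutator_mem_commutator (mem_top _) (mem_top _)
      exact hle (closure_pureT (Q₁ := Q₁) (Q₂ := Q₂) ▸ mem_top a.cen)
  · refine (MulEquiv.mk
      { toFun := fun a => (e₁ ⟨a.1.fst, ((hker a.1).1 a.2).1⟩, e₂ ⟨a.1.snd, ((hker a.1).1 a.2).2⟩,
          a.1.cen)
        invFun := fun x => ⟨⟨(e₁.symm x.1 : G₁), (e₂.symm x.2.1 : G₂), x.2.2⟩,
          (hker _).2 ⟨(e₁.symm x.1).2, (e₂.symm x.2.1).2⟩⟩
        left_inv := fun a => by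
          refine Subtype.ext (BilExt.ext ?_ ?_ rfl) <;> simp
        right_inv := fun x => by
          simp } ?_)
    intro a b
    refine Prod.ext ?_ (Prod.ext ?_ ?_)
    · exact map_mul e₁ ⟨a.1.fst, _⟩ ⟨b.1.fst, _⟩
    · exact map_mul e₂ ⟨a.1.snd, _⟩ ⟨b.1.snd, _⟩
    · show a.1.cen * b.1.cen * β b.1.fst a.1.snd = a.1.cen * b.1.cen
      rw [hβ2 _ ((hker a.1).1 a.2).2, mul_one]
  intro Γ _ _ σ ⟨hs, hc, hd⟩
  letI : CommGroup σ.ker := { (inferInstance : Group σ.ker) with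
    mul_comm := fun a b => Subtype.ext (mem_center_iff.1 (hc b.2) a) }
  have hcm : ∀ {k : Γ}, k ∈ σ.ker → ∀ t, t * k = k * t := fun {k} hk t =>
    mem_center_iff.1 (hc hk) t
  choose t₁ ht₁ using fun q : Q₁ => hs (q, 1)
  choose t₂ ht₂ using fun r : Q₂ => hs (1, r)
  have hbr : ∀ q r, ⁅t₁ q, t₂ r⁆ ∈ σ.ker := fun q r => by
    rw [MonoidHom.mem_ker, map_commutatorElement, ht₁, ht₂, commutatorElement_eq_one_iff_mul_comm]
    exact Prod.ext (by simp) (by simp)
  have hinv : ∀ x y : Γ, (σ x).2 = 1 → (σ y).1 = 1 →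
      ⁅x, y⁆ = ⁅t₁ (σ x).1, t₂ (σ y).2⁆ := by
    intro x y hx hy
    conv_lhs => rw [show x = t₁ (σ x).1 * ((t₁ (σ x).1)⁻¹ * x) by group,
      show y = t₂ (σ y).2 * ((t₂ (σ y).2)⁻¹ * y) by group]
    have hx' : σ x = σ (t₁ (σ x).1) := by rw [ht₁]; exact Prod.ext rfl hx
    have hy' : σ y = σ (t₂ (σ y).2) := by rw [ht₂]; exact Prod.ext hy rfl
    have hzx : (t₁ (σ x).1)⁻¹ * x ∈ σ.ker := by
      rw [MonoidHom.mem_ker, map_mul, map_inv, ← hx', inv_mul_cancel]
    have hzy : (t₂ (σ y).2)⁻¹ * y ∈ σ.ker := by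
      rw [MonoidHom.mem_ker, map_mul, map_inv, ← hy', inv_mul_cancel]
    generalize (t₁ (σ x).1)⁻¹ * x = a at hzx ⊢
    generalize (t₂ (σ y).2)⁻¹ * y = b at hzy ⊢
    generalize t₁ (σ x).1 = p
    generalize t₂ (σ y).2 = q
    simp only [commutatorElement_def, mul_inv_rev]
    calc p * a * (q * b) * (a⁻¹ * p⁻¹) * (b⁻¹ * q⁻¹)
        = p * (a * (q * b)) * a⁻¹ * p⁻¹ * (b⁻¹ * q⁻¹) := by group
      _ = p * (q * b) * p⁻¹ * (b⁻¹ * q⁻¹) := by rw [← hcm hzx]; group
      _ = p * q * (b * p⁻¹) * (b⁻¹ * q⁻¹) := by group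
      _ = p * q * p⁻¹ * q⁻¹ := by rw [← hcm hzy]; group
  let P : Q₁ →* Q₂ →* σ.ker := MonoidHom.mk' (fun q => MonoidHom.mk'
      (fun r => ⟨⁅t₁ q, t₂ r⁆, hbr q r⟩) fun r r' => Subtype.ext (by
        show ⁅t₁ q, t₂ (r * r')⁆ = ⁅t₁ q, t₂ r⁆ * ⁅t₁ q, t₂ r'⁆
        have h := hinv (t₁ q) (t₂ r * t₂ r') (by simp [ht₁]) (by simp [ht₂])
        rw [show (σ (t₁ q)).1 = q by simp [ht₁],
          show (σ (t₂ r * t₂ r')).2 = r * r' by simp [ht₂]] at h
        rw [← h, show ⁅t₁ q, t₂ r * t₂ r'⁆ = ⁅t₁ q, t₂ r⁆ * (t₂ r * ⁅t₁ q, t₂ r'⁆ * (t₂ r)⁻¹) by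
          simp only [commutatorElement_def]; group, hcm (hbr q r'), mul_inv_cancel_right])) fun q q' => by
    refine MonoidHom.ext fun r => Subtype.ext ?_
    show ⁅t₁ (q * q'), t₂ r⁆ = ⁅t₁ q, t₂ r⁆ * ⁅t₁ q', t₂ r⁆
    have h := hinv (t₁ q * t₁ q') (t₂ r) (by simp [ht₁]) (by simp [ht₂])
    rw [show (σ (t₂ r)).2 = r by simp [ht₂],
      show (σ (t₁ q * t₁ q')).1 = q * q' by simp [ht₁]] at h
    rw [← h, show ⁅t₁ q * t₁ q', t₂ r⁆ = t₁ q * ⁅t₁ q', t₂ r⁆ * (t₁ q)⁻¹ * ⁅t₁ q, t₂ r⁆ by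
      simp only [commutatorElement_def]; group, hcm (hbr q' r), mul_inv_cancel_right]
    exact hcm (hbr q r) _
  obtain ⟨j, hj⟩ := exists_lift P
  let X₁ : Subgroup Γ := ((MonoidHom.snd Q₁ Q₂).comp σ).ker
  let X₂ : Subgroup Γ := ((MonoidHom.fst Q₁ Q₂).comp σ).ker
  let r₁ : X₁ →* Q₁ := ((MonoidHom.fst Q₁ Q₂).comp σ).comp X₁.subtype
  let r₂ : X₂ →* Q₂ := ((MonoidHom.snd Q₁ Q₂).comp σ).comp X₂.subtype
  have hr₁ : Function.Surjective r₁ := fun x =>
    ⟨⟨t₁ x, show (σ (t₁ x)).2 = 1 by rw [ht₁]⟩, show (σ (t₁ x)).1 = x by rw [ht₁]⟩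
  have hr₂ : Function.Surjective r₂ := fun x =>
    ⟨⟨t₂ x, show (σ (t₂ x)).1 = 1 by rw [ht₂]⟩, show (σ (t₂ x)).2 = x by rw [ht₂]⟩
  have hk₁ : ∀ x : X₁, x ∈ r₁.ker → (x : Γ) ∈ σ.ker := fun x h => Prod.ext h x.2
  have hk₂ : ∀ x : X₂, x ∈ r₂.ker → (x : Γ) ∈ σ.ker := fun x h => Prod.ext x.2 h
  have hkc₁ : r₁.ker ≤ center X₁ := fun x hx =>
    mem_center_iff.2 fun y => Subtype.ext (hcm (hk₁ x hx) y)
  have hkc₂ : r₂.ker ≤ center X₂ := fun x hx =>
    mem_center_iff.2 fun y => Subtype.ext (hcm (hk₂ x hx) y)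
  obtain ⟨π₁, hπ₁⟩ := CfsgLib.CentralExtMult.exists_surjection hA r₁ hr₁ hkc₁
  obtain ⟨π₂, hπ₂⟩ := CfsgLib.CentralExtMult.exists_surjection hB r₂ hr₂ hkc₂
  let i₁ : A →* σ.ker := MonoidHom.mk' (fun a => ⟨((π₁ a : X₁) : Γ), hk₁ _ (π₁ a).2.1⟩)
    fun a b => Subtype.ext (by simp)
  let i₂ : B →* σ.ker := MonoidHom.mk' (fun a => ⟨((π₂ a : X₂) : Γ), hk₂ _ (π₂ a).2.1⟩)
    fun a b => Subtype.ext (by simp)
  refine ⟨i₁.coprod (i₂.coprod j), ?_⟩
  rintro ⟨z, hz⟩
  obtain ⟨K, hK⟩ : ∃ K : Subgroup Γ, K = j.range.map σ.ker.subtype := ⟨_, rfl⟩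
  have hKz : K ≤ σ.ker := by rw [hK]; exact map_subtype_le _
  haveI : K.Normal :=
    ⟨fun x hx g => by rwa [hcm (hKz hx) g, mul_inv_cancel_right]⟩
  let p := QuotientGroup.mk' K
  have hcomm : ∀ (x : X₁) (y : X₂), Commute ((p.comp X₁.subtype) x) ((p.comp X₂.subtype) y) := by
    intro x y
    refine commutatorElement_eq_one_iff_mul_comm.1 ?_
    show ⁅p (x : Γ), p (y : Γ)⁆ = 1
    rw [← map_commutatorElement, hinv x y x.2 y.2]
    exact (QuotientGroup.eq_one_iff _).2 (hK.ge ⟨_, ⟨pureT _ _, hj _ _⟩, rfl⟩)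
  let m : X₁ × X₂ →* Γ ⧸ K := MonoidHom.noncommCoprod _ _ hcomm
  have hm : Function.Surjective m := by
    intro g
    obtain ⟨g, rfl⟩ := QuotientGroup.mk_surjective g
    obtain ⟨x, hx⟩ := hr₁ (σ g).1
    refine ⟨(x, ⟨(x : Γ)⁻¹ * g, ?_⟩), ?_⟩
    · show (σ ((x : Γ)⁻¹ * g)).1 = 1
      rw [map_mul, map_inv, Prod.fst_mul, Prod.fst_inv, show (σ (x : Γ)).1 = (σ g).1 from hx,
        inv_mul_cancel]
    · show p (x : Γ) * p ((x : Γ)⁻¹ * g) = p g
      rw [← map_mul, mul_inv_cancel_left]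
  have hmap : (commutator (X₁ × X₂)).map m = (commutator Γ).map p := by
    rw [_root_.commutator_def, _root_.commutator_def, map_commutator, map_commutator,
      map_top_of_surjective _ hm, map_top_of_surjective _ (QuotientGroup.mk'_surjective K)]
  obtain ⟨⟨a, b⟩, hab, habz⟩ := hmap.ge (mem_map_of_mem p (hd hz))
  rw [_root_.commutator_def, ← top_prod_top, commutator_prod_prod] at hab
  have habz' : p ((a : Γ) * (b : Γ)) = p z := by rw [map_mul]; exact habz
  have hk : ((a : Γ) * (b : Γ))⁻¹ * z ∈ K := QuotientGroup.eq.1 habz'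
  have hσ : σ (a : Γ) * σ (b : Γ) = 1 := by
    have h := hKz hk
    rw [MonoidHom.mem_ker, map_mul, map_inv, show σ z = 1 from hz, mul_one, inv_eq_one, map_mul] at h
    exact h
  have ha : a ∈ r₁.ker := by
    have h := congrArg Prod.fst hσ
    rw [Prod.fst_mul, show (σ (b : Γ)).1 = 1 from b.2, mul_one] at h
    exact h
  have hb : b ∈ r₂.ker := by
    have h := congrArg Prod.snd hσ
    rw [Prod.snd_mul, show (σ (a : Γ)).2 = 1 from a.2, one_mul] at h
    exact h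
  obtain ⟨α, hα⟩ := hπ₁ ⟨a, ha, by rw [_root_.commutator_def]; exact hab.1⟩
  obtain ⟨γ, hγ⟩ := hπ₂ ⟨b, hb, by rw [_root_.commutator_def]; exact hab.2⟩
  rw [hK] at hk
  obtain ⟨_, ⟨τ, rfl⟩, hτ⟩ := hk
  refine ⟨(α, γ, τ), Subtype.ext ?_⟩
  show ((π₁ α : X₁) : Γ) * (((π₂ γ : X₂) : Γ) * (j τ : Γ)) = z
  rw [hα, hγ, show (j τ : Γ) = ((a : Γ) * b)⁻¹ * z from hτ, ← mul_assoc, mul_inv_cancel_left]

theorem ker_equiv_comp {G : Type u} {G' : Type v} {Γ : Type w} [Group G] [Group G'] [Group Γ]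
    (e : G ≃* G') (σ : Γ →* G) : (e.toMonoidHom.comp σ).ker = σ.ker := by
  ext x; simp [MonoidHom.mem_ker]

/-- Transport along isomorphisms. -/
theorem transfer {G : Type u} {G' : Type u} [Group G] [Group G'] {A : Type w} {A' : Type z}
    [CommGroup A] [CommGroup A'] (h : Cfsg.HasSchurMultiplier G A) (e : G ≃* G') (f : A ≃* A') :
    Cfsg.HasSchurMultiplier G' A' := by
  obtain ⟨⟨Γ, _, _, σ, hσ, ⟨k⟩⟩, h2⟩ := h
  refine ⟨⟨Γ, inferInstance, inferInstance, e.toMonoidHom.comp σ, ⟨e.surjective.comp hσ.1, ?_, ?_⟩,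
    ⟨(MulEquiv.subgroupCongr (ker_equiv_comp e σ)).trans (k.trans f)⟩⟩, ?_⟩
  · rw [ker_equiv_comp]; exact hσ.2.1
  · rw [ker_equiv_comp]; exact hσ.2.2
  intro Δ _ _ τ hτ
  have hk := ker_equiv_comp e.symm τ
  obtain ⟨π, hπ⟩ := h2 Δ (e.symm.toMonoidHom.comp τ)
    ⟨e.symm.surjective.comp hτ.1, hk.symm ▸ hτ.2.1, hk.symm ▸ hτ.2.2⟩
  exact ⟨((MulEquiv.subgroupCongr hk).toMonoidHom.comp π).comp f.symm.toMonoidHom,
    ((MulEquiv.subgroupCongr hk).surjective.comp hπ).comp f.symm.surjective⟩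

end CfsgLib.SchurProduct
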