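import Cfsg.Agent.Schur.Basic
import Mathlib.GroupTheory.Transfer
import Mathlib.GroupTheory.FreeGroup.NielsenSchreier
import Mathlib.GroupTheory.FiniteAbelian.Duality
import Mathlib.RingTheory.RootsOfUnity.AlgebraicallyClosed
import Mathlib.Analysis.Complex.Polynomial.Basic

/-!
Restriction and corestriction between the multipliers of a group and of a subgroup.
-/

set_option autoImplicit false
set_option linter.unusedSectionVars false
set_option linter.style.haveILetI false

namespace CfsgLib.Schur

open Subgroup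
open scoped commutatorElement Pointwise

universe u v w

variable {G : Type u} [Group G] (U : Subgroup G)

/-- Preimage of `U` in the free group on `G`. -/
abbrev preU : Subgroup (FreeGroup G) := U.comap (pres G)

/-- The presentation of `U` by its preimage. -/
def subPres : ↥(preU U) →* U := (pres G).subgroupComap U

theorem subPres_surjective : Function.Surjective (subPres U) :=
  (pres G).subgroupComap_surjective_of_surjective U (pres_surjective G)

/-- `[preU, R]`. -/
def relU : Subgroup ↥(preU U) := ⁅(⊤ : Subgroup ↥(preU U)), (subPres U).ker⁆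

instance relU_normal : (relU U).Normal := by unfold relU; infer_instance

/-- `preU / [preU, R]`. -/
abbrev Wgrp : Type u := ↥(preU U) ⧸ relU U

/-- The map onto `U`. -/
def projU : Wgrp U →* U := QuotientGroup.lift (relU U) (subPres U) (commutator_le_right _ _)

theorem projU_surjective : Function.Surjective (projU U) := fun x => by
  obtain ⟨f, hf⟩ := subPres_surjective U x
  exact ⟨QuotientGroup.mk f, hf⟩

theorem ker_projU_le_center : (projU U).ker ≤ center (Wgrp U) := by
  intro t ht
  obtain ⟨r, rfl⟩ := QuotientGroup.mk_surjective t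
  rw [mem_center_iff]
  intro x
  obtain ⟨f, rfl⟩ := QuotientGroup.mk_surjective x
  rw [← commutatorElement_eq_one_iff_mul_comm]
  exact (QuotientGroup.eq_one_iff ⁅f, r⁆).2
    (commutator_mem_commutator (mem_top f) (show r ∈ (subPres U).ker from ht))

instance kerProjCommGroup : CommGroup ↥(proj G).ker :=
  { (inferInstance : Group ↥(proj G).ker) with
    mul_comm := fun a b => Subtype.ext (mem_center_iff.1 (ker_proj_le_center G b.2) a) }

instance kerProjUCommGroup : CommGroup ↥(projU U).ker :=
  { (inferInstance : Group ↥(projU U).ker) with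
    mul_comm := fun a b => Subtype.ext (mem_center_iff.1 (ker_projU_le_center U b.2) a) }

/-- `(R ∩ preU') / [preU, R]`. -/
abbrev multU : Subgroup (Wgrp U) := (projU U).ker ⊓ commutator (Wgrp U)

/-- Corestriction before cutting down to the multipliers. -/
def corMap : Wgrp U →* Fb G :=
  QuotientGroup.lift (relU U) ((QuotientGroup.mk' (relSub G)).comp (preU U).subtype) (by
    unfold relU
    rw [commutator_le]
    intro a _ r hr
    rw [MonoidHom.mem_ker, map_commutatorElement, MonoidHom.comp_apply, MonoidHom.comp_apply,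
      ← map_commutatorElement]
    exact (QuotientGroup.eq_one_iff _).2 (commutator_mem_commutator (mem_top _)
      (show pres G r = 1 from congrArg Subtype.val (show subPres U r = 1 from hr))))

theorem proj_corMap (x : Wgrp U) : proj G (corMap U x) = (projU U x : G) := by
  obtain ⟨f, rfl⟩ := QuotientGroup.mk_surjective x
  rfl

theorem ker_le_preU : (pres G).ker ≤ preU U := fun x hx => by
  rw [mem_comap, show pres G x = 1 from hx]
  exact one_mem U

/-- One conjugate of a relation. -/
def conjRel (t : FreeGroup G) : ↥(pres G).ker →* ↥(projU U).ker :=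
  MonoidHom.mk' (fun r => ⟨QuotientGroup.mk (⟨t⁻¹ * r * t, ker_le_preU U (by
      rw [MonoidHom.mem_ker, map_mul, map_mul, show pres G (r : FreeGroup G) = 1 from r.2, mul_one,
        ← map_mul, inv_mul_cancel, map_one])⟩ : ↥(preU U)), Subtype.ext (by
      show pres G (t⁻¹ * r * t) = 1
      rw [map_mul, map_mul, show pres G (r : FreeGroup G) = 1 from r.2, mul_one, ← map_mul,
        inv_mul_cancel, map_one])⟩) fun a b => Subtype.ext (by
    show (QuotientGroup.mk _ : Wgrp U) = QuotientGroup.mk _ * QuotientGroup.mk _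
    rw [← QuotientGroup.mk_mul]
    refine congrArg _ (Subtype.ext ?_)
    show t⁻¹ * ((a : FreeGroup G) * b) * t = t⁻¹ * a * t * (t⁻¹ * b * t)
    group)

theorem conjRel_mul (t : FreeGroup G) (u : ↥(preU U)) : conjRel U (t * u) = conjRel U t := by
  refine MonoidHom.ext fun r => Subtype.ext ?_
  show (QuotientGroup.mk (⟨(t * (u : FreeGroup G))⁻¹ * r * (t * u), _⟩ : ↥(preU U)) : Wgrp U) =
    ((conjRel U t r : ↥(projU U).ker) : Wgrp U)
  have h := mem_center_iff.1 (ker_projU_le_center U (conjRel U t r).2)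
    ((QuotientGroup.mk u : Wgrp U)⁻¹)
  calc (QuotientGroup.mk (⟨(t * (u : FreeGroup G))⁻¹ * r * (t * u), _⟩ : ↥(preU U)) : Wgrp U)
      = (QuotientGroup.mk u : Wgrp U)⁻¹ * ((conjRel U t r : ↥(projU U).ker) : Wgrp U)
          * QuotientGroup.mk u := by
        show _ = (QuotientGroup.mk u : Wgrp U)⁻¹ * QuotientGroup.mk _ * QuotientGroup.mk u
        rw [← QuotientGroup.mk_inv, ← QuotientGroup.mk_mul, ← QuotientGroup.mk_mul]
        refine congrArg _ (Subtype.ext ?_)
        show (t * (u : FreeGroup G))⁻¹ * r * (t * u) =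
          (u : FreeGroup G)⁻¹ * (t⁻¹ * r * t) * u
        group
    _ = _ := by rw [h, inv_mul_cancel_right]

/-- The conjugate attached to a coset. -/
def conjRelBar : FreeGroup G ⧸ preU U → (↥(pres G).ker →* ↥(projU U).ker) :=
  Quotient.lift (conjRel U) fun a b h => by
    have h' : a⁻¹ * b ∈ preU U := QuotientGroup.leftRel_apply.1 h
    rw [← conjRel_mul U a ⟨_, h'⟩, mul_inv_cancel_left]

variable [Finite G]

instance preU_finiteIndex : (preU U).FiniteIndex :=
  ⟨by rw [index_comap_of_surjective U (pres_surjective G)]; exact FiniteIndex.index_ne_zero⟩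

noncomputable instance : Fintype (FreeGroup G ⧸ preU U) := Fintype.ofFinite _

/-- The norm of a relation. -/
noncomputable def relNorm : ↥(pres G).ker →* ↥(projU U).ker := ∏ q, conjRelBar U q

theorem relNorm_apply (r : ↥(pres G).ker) : relNorm U r = ∏ q, conjRelBar U q r :=
  MonoidHom.finsetProd_apply _ _ _

theorem relNorm_conj (f : FreeGroup G) (r : ↥(pres G).ker)
    (h : f * r * f⁻¹ ∈ (pres G).ker) : relNorm U ⟨_, h⟩ = relNorm U r := by
  rw [relNorm_apply, relNorm_apply]
  refine Fintype.prod_equiv (MulAction.toPerm f⁻¹) _ _ fun q => ?_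
  obtain ⟨t, rfl⟩ := QuotientGroup.mk_surjective q
  show conjRel U t ⟨_, h⟩ = conjRel U (f⁻¹ * t) r
  refine Subtype.ext ?_
  show (QuotientGroup.mk (⟨_, _⟩ : ↥(preU U)) : Wgrp U) = QuotientGroup.mk (⟨_, _⟩ : ↥(preU U))
  refine congrArg _ (Subtype.ext ?_)
  show t⁻¹ * (f * (r : FreeGroup G) * f⁻¹) * t = (f⁻¹ * t)⁻¹ * r * (f⁻¹ * t)
  group

/-- Reduction of relations. -/
def relMk : ↥(pres G).ker →* ↥(proj G).ker :=
  MonoidHom.mk' (fun r => ⟨QuotientGroup.mk (r : FreeGroup G), r.2⟩) fun _ _ => rfl

theorem relMk_surjective : Function.Surjective (relMk (G := G)) := by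
  rintro ⟨t, ht⟩
  obtain ⟨f, rfl⟩ := QuotientGroup.mk_surjective t
  exact ⟨⟨f, ht⟩, rfl⟩

theorem ker_relMk_le : (relMk (G := G)).ker ≤ (relNorm U).ker := by
  intro r hr
  have hr' : (r : FreeGroup G) ∈ relSub G :=
    (QuotientGroup.eq_one_iff _).1 (congrArg Subtype.val hr)
  have hle : relSub G ≤ (relNorm U).ker.map (pres G).ker.subtype := by
    unfold relSub
    rw [commutator_le]
    intro f _ s hs
    have hc : f * s * f⁻¹ ∈ (pres G).ker := (MonoidHom.normal_ker _).conj_mem s hs f
    refine ⟨⟨f * s * f⁻¹, hc⟩ * ⟨s, hs⟩⁻¹, ?_, ?_⟩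
    · show relNorm U (_ * _) = 1
      rw [map_mul, map_inv, relNorm_conj U f ⟨s, hs⟩ hc, mul_inv_cancel]
    · exact (commutatorElement_def f s).symm
  obtain ⟨s, hs, hsr⟩ := hle hr'
  exact (Subtype.ext hsr : s = r) ▸ hs

/-- Restriction on `R / [F, R]`. -/
noncomputable def resKer : ↥(proj G).ker →* ↥(projU U).ker :=
  (relMk (G := G)).liftOfSurjective relMk_surjective ⟨relNorm U, ker_relMk_le U⟩

theorem resKer_relMk (r : ↥(pres G).ker) : resKer U (relMk r) = relNorm U r :=
  MonoidHom.liftOfRightInverse_comp_apply _ _ _ _ r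

theorem corMap_resKer (x : ↥(proj G).ker) :
    corMap U (resKer U x : Wgrp U) = (x : Fb G) ^ U.index := by
  obtain ⟨r, rfl⟩ := relMk_surjective x
  rw [resKer_relMk, relNorm_apply]
  let corK : ↥(projU U).ker →* ↥(proj G).ker :=
    MonoidHom.mk' (fun y => ⟨corMap U y, by
      rw [MonoidHom.mem_ker, proj_corMap, show projU U y = 1 from y.2, OneMemClass.coe_one]⟩)
      fun a b => Subtype.ext (map_mul (corMap U) _ _)
  show ((corK (∏ q, conjRelBar U q r) : ↥(proj G).ker) : Fb G) = _
  have h : ∀ q, corK (conjRelBar U q r) = relMk r := fun q => by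
    obtain ⟨t, rfl⟩ := QuotientGroup.mk_surjective q
    refine Subtype.ext ?_
    show (QuotientGroup.mk (t⁻¹ * (r : FreeGroup G) * t) : Fb G) = QuotientGroup.mk (r : FreeGroup G)
    rw [QuotientGroup.mk_mul, QuotientGroup.mk_mul,
      mem_center_iff.1 (ker_proj_le_center G (show (QuotientGroup.mk (r : FreeGroup G) : Fb G) ∈
        (proj G).ker from r.2)), QuotientGroup.mk_inv, mul_assoc, inv_mul_cancel, mul_one]
  rw [map_prod, Finset.prod_congr rfl fun q _ => h q, Finset.prod_const, Finset.card_univ,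
    Fintype.card_eq_nat_card, ← Subgroup.index_eq_card,
    index_comap_of_surjective U (pres_surjective G)]
  rfl

theorem resKer_mem (x : ↥(proj G).ker) (hx : (x : Fb G) ∈ commutator (Fb G)) :
    (resKer U x : Wgrp U) ∈ commutator (Wgrp U) := by
  obtain ⟨r, rfl⟩ := relMk_surjective x
  rw [resKer_relMk]
  have hr : (r : FreeGroup G) ∈ commutator (FreeGroup G) := by
    rw [_root_.commutator_def, ← map_top_of_surjective (QuotientGroup.mk' (relSub G))
      (QuotientGroup.mk'_surjective _), ← map_commutator, ← _root_.commutator_def] at hx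
    obtain ⟨f, hf, hfr⟩ := hx
    have h : f⁻¹ * (r : FreeGroup G) ∈ relSub G := QuotientGroup.eq.1 hfr
    rw [show (r : FreeGroup G) = f * (f⁻¹ * r) by group]
    exact mul_mem hf ((commutator_mono le_rfl le_top :
      relSub G ≤ ⁅(⊤ : Subgroup (FreeGroup G)), ⊤⁆) h)
  let φ : ↥(preU U) →* Abelianization (Wgrp U) :=
    Abelianization.of.comp (QuotientGroup.mk' (relU U))
  have h1 : MonoidHom.transfer φ (r : FreeGroup G) = 1 :=
    Abelianization.commutator_subset_ker (MonoidHom.transfer φ) hr
  obtain ⟨T⟩ : Nonempty (preU U).LeftTransversal := inferInstance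
  rw [MonoidHom.transfer_def φ T] at h1
  refine (QuotientGroup.eq_one_iff _).1 (Eq.trans ?_ h1)
  show Abelianization.of (((relNorm U r : ↥(projU U).ker) : Wgrp U)) = _
  rw [relNorm_apply, ← Subgroup.coe_subtype, ← MonoidHom.comp_apply, map_prod,
    Subgroup.leftTransversals.diff]
  refine Finset.prod_congr (by ext; simp) fun q _ => ?_
  have hq : ((r : FreeGroup G))⁻¹ • q = q := by
    obtain ⟨t, rfl⟩ := QuotientGroup.mk_surjective q
    refine QuotientGroup.eq.2 (ker_le_preU U ?_)
    show pres G (((r : FreeGroup G)⁻¹ * t)⁻¹ * t) = 1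
    rw [map_mul, map_inv, map_mul, map_inv, show pres G (r : FreeGroup G) = 1 from r.2, inv_one,
      one_mul, inv_mul_cancel]
  have hb : conjRelBar U q = conjRel U (T.2.leftQuotientEquiv q : FreeGroup G) := by
    conv_lhs => rw [← T.2.quotientGroupMk_leftQuotientEquiv q]
    rfl
  show Abelianization.of ((conjRelBar U q r : ↥(projU U).ker) : Wgrp U) = _
  rw [hb]
  show Abelianization.of (QuotientGroup.mk _) = Abelianization.of (QuotientGroup.mk _)
  refine congrArg Abelianization.of (congrArg _ (Subtype.ext ?_))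
  show _ * _ * _ = _ * _
  rw [Subgroup.smul_apply_eq_smul_apply_inv_smul, hq, smul_eq_mul, mul_assoc]

/-- `M(U)` computed inside `preU`. -/
theorem exists_equiv_multU : Nonempty (↥(mult ↥U) ≃* ↥(multU U)) := by
  obtain ⟨ψ, hψ⟩ := exists_hom ↥U (projU U) (projU_surjective U) (ker_projU_le_center U)
  obtain ⟨C, hC, hd, hs⟩ := exists_compl ↥U (proj ↥U).ker le_rfl fun t ht => ⟨t, ht, by
    rw [inv_mul_cancel]; exact one_mem _⟩
  obtain ⟨Γ, _, _, q, σ, hq, hσ, -, -, hbij⟩ := cover_of_compl ↥U C hC hd hs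
  -- a lift of the free group `preU`
  choose sec hsec using hσ.1
  let χ : ↥(preU U) →* Γ := IsFreeGroup.lift fun a => sec (subPres U (IsFreeGroup.of a))
  have hχ : σ.comp χ = subPres U := IsFreeGroup.ext_hom fun a => by simp [χ, hsec]
  have hle : relU U ≤ χ.ker := by
    unfold relU
    rw [commutator_le]
    intro g _ r hr
    rw [MonoidHom.mem_ker, map_commutatorElement, commutatorElement_eq_one_iff_mul_comm]
    exact mem_center_iff.1 (hσ.2.1 (show σ (χ r) = 1 by
      rw [← MonoidHom.comp_apply, hχ]; exact hr)) _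
  let χ' : Wgrp U →* Γ := QuotientGroup.lift (relU U) χ hle
  have hχ' : σ.comp χ' = projU U := MonoidHom.ext fun x => by
    obtain ⟨f, rfl⟩ := QuotientGroup.mk_surjective x
    exact DFunLike.congr_fun hχ f
  have hσ' : σ.comp (χ'.comp ψ) = σ.comp q := by rw [← MonoidHom.comp_assoc, hχ', hψ, hq]
  have hmap := map_mult ↥U (projU U) (ker_projU_le_center U) ψ hψ
  let f : ↥(mult ↥U) →* ↥(multU U) :=
    (ψ.comp (mult ↥U).subtype).codRestrict _ fun m => hmap.le (mem_map_of_mem ψ m.2)
  refine ⟨MulEquiv.ofBijective f ⟨(injective_iff_map_eq_one f).2 fun m hm => ?_, fun y => ?_⟩⟩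
  · refine hbij.1 (Eq.trans (Subtype.ext ?_) (map_one _).symm)
    rw [coe_multMap, ← eqOn_commutator hσ.2.1 hσ' m.2.2, MonoidHom.comp_apply,
      show ψ m = 1 from congrArg Subtype.val hm, map_one]
    rfl
  · obtain ⟨m, hm, hmy⟩ := hmap.ge y.2
    exact ⟨⟨m, hm⟩, Subtype.ext hmy⟩

/-- Restriction followed by corestriction is the power by the index. -/
theorem exists_res_cor {A : Type v} {B : Type w} [CommGroup A] [CommGroup B]
    (hA : Cfsg.HasSchurMultiplier G A) (hB : Cfsg.HasSchurMultiplier ↥U B) :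
    Finite A ∧ Finite B ∧ ∃ (i : A →* B) (j : B →* A), ∀ a, j (i a) = a ^ U.index := by
  obtain ⟨eA⟩ := equiv_mult G hA
  obtain ⟨eB⟩ := equiv_mult ↥U hB
  obtain ⟨eU⟩ := exists_equiv_multU U
  refine ⟨Finite.of_equiv _ eA.symm.toEquiv, Finite.of_equiv _ eB.symm.toEquiv, ?_⟩
  let r : ↥(mult G) →* ↥(multU U) :=
    ((projU U).ker.subtype.comp ((resKer U).comp (inclusion inf_le_left))).codRestrict _
      fun m => ⟨(resKer U _).2, resKer_mem U _ m.2.2⟩
  let c : ↥(multU U) →* ↥(mult G) :=
    ((corMap U).comp (multU U).subtype).codRestrict _ fun y => ⟨by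
      show proj G (corMap U y) = 1
      rw [proj_corMap, show projU U y = 1 from y.2.1, OneMemClass.coe_one], by
      have h : corMap U y ∈ (commutator (Wgrp U)).map (corMap U) := mem_map_of_mem _ y.2.2
      rw [_root_.commutator_def, map_commutator] at h
      rw [_root_.commutator_def]
      exact commutator_mono le_top le_top h⟩
  refine ⟨(eU.symm.toMonoidHom.comp r |> (eB.symm.toMonoidHom.comp ·)).comp eA.toMonoidHom,
    eA.symm.toMonoidHom.comp (c.comp (eU.toMonoidHom.comp eB.toMonoidHom)), fun a => ?_⟩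
  apply eA.injective
  show eA (eA.symm (c (eU (eB (eB.symm (eU.symm (r (eA a)))))))) = eA (a ^ U.index)
  rw [MulEquiv.apply_symm_apply, MulEquiv.apply_symm_apply, MulEquiv.apply_symm_apply, map_pow]
  refine Subtype.ext ?_
  rw [SubmonoidClass.coe_pow]
  exact corMap_resKer U (inclusion inf_le_left (eA a))

/-- An image of a finite abelian group is isomorphic to one of its subgroups. -/
theorem exists_embedding_of_surjective {B : Type v} {L : Type w} [CommGroup B] [Finite B]
    [CommGroup L] (f : B →* L) (hf : Function.Surjective f) :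
    ∃ g : L →* B, Function.Injective g := by
  haveI : Finite L := Finite.of_surjective f hf
  obtain ⟨eB⟩ := CommGroup.monoidHom_mulEquiv_of_hasEnoughRootsOfUnity B ℂ
  obtain ⟨eL⟩ := CommGroup.monoidHom_mulEquiv_of_hasEnoughRootsOfUnity L ℂ
  let pre : (L →* ℂˣ) →* (B →* ℂˣ) := MonoidHom.mk' (fun χ => χ.comp f) fun _ _ => rfl
  refine ⟨eB.toMonoidHom.comp (pre.comp eL.symm.toMonoidHom), fun a b hab => ?_⟩
  have h := eB.injective hab
  exact eL.symm.injective ((MonoidHom.cancel_right hf).1 h)

end CfsgLib.Schur
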