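import Cfsg.Agent.Schur.Pullback
import Mathlib.GroupTheory.Divisible
import Mathlib.Algebra.Category.Grp.Injective
import Mathlib.LinearAlgebra.Matrix.GeneralLinearGroup.Basic
import Mathlib.GroupTheory.Abelianization.Defs

/-!
Projective representations lift to covering groups.
-/

set_option autoImplicit false
set_option linter.unusedSectionVars false
set_option linter.style.haveILetI false

namespace CfsgLib.Schur

open Subgroup

universe u v w

/-- A homomorphism on a subgroup meeting the derived group trivially extends when the target is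
divisible. -/
theorem exists_extension {G : Type u} [Group G] (C : Subgroup G) (hd : C ⊓ commutator G = ⊥)
    {Z : Type w} [CommGroup Z] (hdiv : ∀ (k : ℤ), k ≠ 0 → Function.Surjective fun z : Z => z ^ k)
    (f : C →* Z) : ∃ μ : G →* Z, ∀ c : C, μ c = f c := by
  let i : C →* Abelianization G := Abelianization.of.comp C.subtype
  have hi : Function.Injective i := (injective_iff_map_eq_one i).2 fun c hc => by
    have h : (c : G) ∈ commutator G := (QuotientGroup.eq_one_iff (c : G)).1 hc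
    exact Subtype.ext (mem_bot.1 (hd ▸ (⟨c.2, h⟩ : (c : G) ∈ C ⊓ commutator G)))
  letI : CommGroup C := { (inferInstance : Group C) with
    mul_comm := fun a b => hi (by rw [map_mul, map_mul, mul_comm]) }
  letI : DivisibleBy (Additive Z) ℤ := divisibleByOfSMulRightSurj _ _ fun {k} hk z => by
    obtain ⟨y, hy⟩ := hdiv k hk z.toMul
    exact ⟨Additive.ofMul y, congrArg Additive.ofMul hy⟩
  obtain ⟨h, hh⟩ := (Module.Baer.of_divisible (Additive Z)).extension_property_addMonoidHom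
    (MonoidHom.toAdditive i) (fun a b hab => hi hab) (MonoidHom.toAdditive f)
  refine ⟨(MonoidHom.toAdditive.symm h).comp Abelianization.of, fun c => ?_⟩
  exact congrArg Additive.toMul (DFunLike.congr_fun hh (Additive.ofMul c))

theorem pow_surjective_center (n : ℕ) (k : ℤ) (hk : k ≠ 0) :
    Function.Surjective fun z : center (GL (Fin n) ℂ) => z ^ k := by
  rintro ⟨z, hz⟩
  rw [Matrix.GeneralLinearGroup.center_eq_range_scalar] at hz
  obtain ⟨a, rfl⟩ := hz
  have key : ∀ (m : ℕ), 0 < m → ∀ a : ℂˣ, ∃ b : ℂˣ, b ^ m = a := by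
    intro m hm a
    obtain ⟨w, hw⟩ := IsAlgClosed.exists_pow_nat_eq (a : ℂ) hm
    have hw0 : w ≠ 0 := by rintro rfl; exact a.ne_zero (by rw [← hw, zero_pow hm.ne'])
    exact ⟨Units.mk0 w hw0, Units.ext (by simpa using hw)⟩
  obtain ⟨b, hb⟩ : ∃ b : ℂˣ, b ^ k = a := by
    obtain ⟨m, rfl | rfl⟩ := Int.eq_nat_or_neg k
    · obtain ⟨b, hb⟩ := key m (by omega) a
      exact ⟨b, by rwa [zpow_natCast]⟩
    · obtain ⟨b, hb⟩ := key m (by omega) a
      exact ⟨b⁻¹, by rwa [zpow_neg, inv_zpow, inv_inv, zpow_natCast]⟩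
  refine ⟨⟨Matrix.GeneralLinearGroup.scalar (Fin n) b, by
    rw [Matrix.GeneralLinearGroup.center_eq_range_scalar]; exact ⟨b, rfl⟩⟩, Subtype.ext ?_⟩
  show (Matrix.GeneralLinearGroup.scalar (Fin n) b) ^ k = _
  rw [← map_zpow, hb]

variable {Q : Type u} [Group Q] [Finite Q] {A : Type v} [CommGroup A]
  {Γ : Type w} [Group Γ] [Finite Γ]

theorem lift_cover (hA : Cfsg.HasSchurMultiplier Q A) (σ : Γ →* Q) (hσ : Cfsg.IsStemExtension σ)
    (hk : Nonempty (σ.ker ≃* A)) (n : ℕ)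
    (γ : Q →* (GL (Fin n) ℂ ⧸ center (GL (Fin n) ℂ))) :
    ∃ ρ : Γ →* GL (Fin n) ℂ,
      (QuotientGroup.mk' (center (GL (Fin n) ℂ))).comp ρ = γ.comp σ := by
  set Z := center (GL (Fin n) ℂ) with hZ
  obtain ⟨ψ, hψ⟩ := exists_hom Q σ hσ.1 hσ.2.1
  obtain ⟨hψs, hψle, hψd, -, -⟩ := cover_facts Q hA σ hσ hk ψ hψ
  let P := pullback γ (QuotientGroup.mk' Z)
  obtain ⟨θ, hθ⟩ := exists_hom Q (pfst γ (QuotientGroup.mk' Z))
    (pfst_surjective _ _ (QuotientGroup.mk'_surjective Z))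
    (pfst_ker_le_center _ _ (by rw [QuotientGroup.ker_mk']))
  let θ' : Fb Q →* GL (Fin n) ℂ := (psnd γ (QuotientGroup.mk' Z)).comp θ
  have hθ' : ∀ x, QuotientGroup.mk' Z (θ' x) = γ (proj Q x) := fun x => by
    rw [← hθ]; exact (mem_pullback.1 (θ x).2).symm
  have hC : ∀ c : ψ.ker, θ' c ∈ Z := fun c => by
    refine (QuotientGroup.eq_one_iff _).1 ((hθ' c).trans ?_)
    rw [show proj Q (c : Fb Q) = 1 from hψle c.2, map_one]
  letI : CommGroup Z := { (inferInstance : Group Z) with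
    mul_comm := fun a b => Subtype.ext (mem_center_iff.1 b.2 a) }
  obtain ⟨μ, hμ⟩ := exists_extension ψ.ker hψd (Z := Z) (pow_surjective_center n)
    ((θ'.comp ψ.ker.subtype).codRestrict Z hC)
  let θ'' : Fb Q →* GL (Fin n) ℂ := MonoidHom.mk' (fun x => θ' x * ((μ x : GL (Fin n) ℂ))⁻¹)
    fun a b => by
      rw [map_mul, map_mul, Subgroup.coe_mul, mul_inv_rev]
      have h := mem_center_iff.1 (inv_mem (μ a).2) (θ' b * ((μ b : GL (Fin n) ℂ))⁻¹)
      calc θ' a * θ' b * (((μ b : GL (Fin n) ℂ))⁻¹ * ((μ a : GL (Fin n) ℂ))⁻¹)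
          = θ' a * ((θ' b * ((μ b : GL (Fin n) ℂ))⁻¹) * ((μ a : GL (Fin n) ℂ))⁻¹) := by group
        _ = _ := by rw [h]; group
  have hker : ψ.ker ≤ θ''.ker := fun c hc => by
    show θ' c * ((μ c : GL (Fin n) ℂ))⁻¹ = 1
    rw [hμ ⟨c, hc⟩]
    exact mul_inv_cancel (θ' c)
  refine ⟨ψ.liftOfSurjective hψs ⟨θ'', hker⟩, MonoidHom.ext fun y => ?_⟩
  obtain ⟨x, rfl⟩ := hψs y
  rw [MonoidHom.comp_apply, MonoidHom.comp_apply, MonoidHom.liftOfRightInverse_comp_apply,
    show σ (ψ x) = proj Q x from DFunLike.congr_fun hψ x, ← hθ' x]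
  show QuotientGroup.mk' Z (θ' x * ((μ x : GL (Fin n) ℂ))⁻¹) = _
  rw [map_mul, show QuotientGroup.mk' Z ((μ x : GL (Fin n) ℂ))⁻¹ = 1 from
    (QuotientGroup.eq_one_iff _).2 (inv_mem (μ x).2), mul_one]

end CfsgLib.Schur
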