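import Cfsg.Agent.FGSB.StemExt
import Mathlib.GroupTheory.PresentedGroup
import Mathlib.Algebra.Field.GeomSum
import Mathlib.Data.Nat.GCD.Basic
import Mathlib.Data.ZMod.Basic

/-!
# Metacyclic groups given by presentations

Normal form, order of the cyclic normal generator, and stem extensions.
-/

set_option autoImplicit false
set_option linter.style.haveILetI false

namespace CfsgLib.Metacyclic

open Subgroup

universe u

/-- The relations of the metacyclic group with parameters `M, n, R, s`. -/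
def rels (M n R s : ℕ) : Set (FreeGroup Bool) :=
  {FreeGroup.of true ^ M, (FreeGroup.of false) ^ n * (FreeGroup.of true ^ s)⁻¹,
    FreeGroup.of false * FreeGroup.of true * (FreeGroup.of false)⁻¹ * (FreeGroup.of true ^ R)⁻¹}

abbrev Grp (M n R s : ℕ) := PresentedGroup (rels M n R s)

variable {M n R s : ℕ}

theorem normal_zpowers {H : Type u} [Group H] {w : H} (h : ∀ g, g * w = w * g) : (zpowers w).Normal := by
  refine ⟨fun x hx g => ?_⟩
  obtain ⟨k, rfl⟩ := hx
  have : Commute g w := h g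
  have h2 : g * w ^ k * g⁻¹ = w ^ k := by rw [(this.zpow_right k).eq, mul_inv_cancel_right]
  exact h2.symm ▸ zpow_mem (mem_zpowers w) k

abbrev genA (M n R s : ℕ) : Grp M n R s := PresentedGroup.of true
abbrev genB (M n R s : ℕ) : Grp M n R s := PresentedGroup.of false

theorem genA_pow : genA M n R s ^ M = 1 := by
  have h : FreeGroup.of true ^ M ∈ rels M n R s := Or.inl rfl
  have h' := PresentedGroup.one_of_mem h
  rw [map_pow] at h'
  exact h'

theorem genB_pow : genB M n R s ^ n = genA M n R s ^ s := by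
  have h : (FreeGroup.of false) ^ n * (FreeGroup.of true ^ s)⁻¹ ∈ rels M n R s := Or.inr (Or.inl rfl)
  have h' := PresentedGroup.one_of_mem h
  rw [map_mul, map_inv, map_pow, map_pow] at h'
  exact mul_inv_eq_one.1 h'

theorem gen_conj : genB M n R s * genA M n R s * (genB M n R s)⁻¹ = genA M n R s ^ R := by
  have h : FreeGroup.of false * FreeGroup.of true * (FreeGroup.of false)⁻¹ *
      (FreeGroup.of true ^ R)⁻¹ ∈ rels M n R s := Or.inr (Or.inr rfl)
  have h' := PresentedGroup.one_of_mem h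
  rw [map_mul, map_inv, map_pow, map_mul, map_mul, map_inv] at h'
  exact mul_inv_eq_one.1 h'

/-- The map out of the presented group. -/
theorem exists_hom {Q : Type u} [Group Q] {a b : Q} (ha : a ^ M = 1) (hb : b ^ n = a ^ s)
    (hab : b * a * b⁻¹ = a ^ R) :
    ∃ f : Grp M n R s →* Q, f (genA M n R s) = a ∧ f (genB M n R s) = b := by
  have h : ∀ r ∈ rels M n R s, FreeGroup.lift (fun x => cond x a b) r = 1 := by
    rintro r (rfl | rfl | rfl)
    · simpa using ha
    · simpa [mul_inv_eq_one] using hb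
    · simpa [mul_inv_eq_one] using hab
  exact ⟨PresentedGroup.toGroup h, PresentedGroup.toGroup.of h, PresentedGroup.toGroup.of h⟩

theorem closure_gen : closure ({genA M n R s, genB M n R s} : Set (Grp M n R s)) = ⊤ := by
  rw [← PresentedGroup.closure_range_of (rels M n R s)]
  congr 1
  ext x
  constructor
  · rintro (rfl | rfl)
    · exact ⟨true, rfl⟩
    · exact ⟨false, rfl⟩
  · rintro ⟨(_ | _), rfl⟩
    · exact Or.inr rfl
    · exact Or.inl rfl

/-- Normal form `A ^ i * B ^ j`. -/
theorem exists_normal_form (hM : 0 < M) (hn : 0 < n) (hR : R ^ n ≡ 1 [MOD M]) (g : Grp M n R s) :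
    ∃ i < M, ∃ j < n, g = genA M n R s ^ i * genB M n R s ^ j := by
  set A := genA M n R s
  set B := genB M n R s
  haveI hN : (zpowers A).Normal := by
    rw [← normalizer_eq_top_iff, eq_top_iff, ← closure_gen, closure_le]
    intro x hx
    rw [SetLike.mem_coe, mem_normalizer_iff_map_conj_eq, MonoidHom.map_zpowers]
    rcases hx with rfl | rfl
    · simp [A]
    · show zpowers (B * A * B⁻¹) = zpowers A
      rw [gen_conj]
      refine le_antisymm (zpowers_le.2 (npow_mem_zpowers A R)) (zpowers_le.2 ⟨(R ^ (n - 1) : ℕ), ?_⟩)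
      show (A ^ R) ^ (((R ^ (n - 1) : ℕ) : ℤ)) = A
      rw [zpow_natCast, ← pow_mul, ← pow_succ', Nat.sub_add_cancel hn]
      conv_rhs => rw [← pow_one A]
      exact pow_eq_pow_iff_modEq.2 (hR.of_dvd (orderOf_dvd_of_pow_eq_one genA_pow))
  have htop : zpowers A ⊔ zpowers B = ⊤ := by
    rw [eq_top_iff, ← closure_gen, closure_le]
    rintro x (rfl | rfl)
    · exact mem_sup_left (mem_zpowers _)
    · exact mem_sup_right (mem_zpowers _)
  obtain ⟨y, ⟨i, rfl⟩, z, ⟨j, rfl⟩, rfl⟩ := mem_sup_of_normal_left.1 (htop.symm ▸ mem_top g)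
  have hn' : (n : ℤ) ≠ 0 := by omega
  have hM' : (M : ℤ) ≠ 0 := by omega
  refine ⟨((i + s * (j / n)) % M).toNat, ?_, (j % n).toNat, ?_, ?_⟩
  · have := Int.emod_lt_of_pos (i + s * (j / n)) (show (0 : ℤ) < M by omega)
    omega
  · have := Int.emod_lt_of_pos j (show (0 : ℤ) < n by omega)
    omega
  · rw [← zpow_natCast A ((i + s * (j / n)) % M).toNat, ← zpow_natCast B (j % n).toNat,
      Int.toNat_of_nonneg (Int.emod_nonneg _ hM'), Int.toNat_of_nonneg (Int.emod_nonneg _ hn')]
    show A ^ i * B ^ j = _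
    conv_lhs => rw [← Int.mul_ediv_add_emod j n, zpow_add, zpow_mul, zpow_natCast, genB_pow,
      ← zpow_natCast A, ← zpow_mul, ← mul_assoc, ← zpow_add]
    congr 1
    conv_lhs => rw [← Int.mul_ediv_add_emod (i + s * (j / n)) M, zpow_add, zpow_mul, zpow_natCast,
      genA_pow, one_zpow, one_mul]

theorem finite (hM : 0 < M) (hn : 0 < n) (hR : R ^ n ≡ 1 [MOD M]) : Finite (Grp M n R s) :=
  Finite.of_surjective (fun x : Fin M × Fin n => genA M n R s ^ (x.1 : ℕ) * genB M n R s ^ (x.2 : ℕ))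
    fun g => by
      obtain ⟨i, hi, j, hj, rfl⟩ := exists_normal_form hM hn hR g
      exact ⟨(⟨i, hi⟩, ⟨j, hj⟩), rfl⟩

/-- The generator `A` has order exactly `M`. -/
theorem orderOf_genA (hn : 0 < n) (hR : R ^ n ≡ 1 [MOD M]) (hs : R * s ≡ s [MOD M]) :
    orderOf (genA M n R s) = M := by
  refine Nat.dvd_antisymm (orderOf_dvd_of_pow_eq_one genA_pow) ?_
  have hRn : (R : ZMod M) ^ n = 1 := by
    rw [← Nat.cast_pow, ← Nat.cast_one]; exact (ZMod.natCast_eq_natCast_iff _ _ _).2 hR
  have hRs : (R : ZMod M) * (s : ZMod M) = (s : ZMod M) := by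
    rw [← Nat.cast_mul]; exact (ZMod.natCast_eq_natCast_iff _ _ _).2 hs
  have hR1 : (R : ZMod M) * (R : ZMod M) ^ (n - 1) = 1 := by
    rw [← pow_succ', Nat.sub_add_cancel hn, hRn]
  let e : Equiv.Perm (ZMod M) :=
    { toFun := fun x => (R : ZMod M) * x
      invFun := fun x => (R : ZMod M) ^ (n - 1) * x
      left_inv := fun x => by
        show (R : ZMod M) ^ (n - 1) * ((R : ZMod M) * x) = x
        linear_combination x * hR1
      right_inv := fun x => by
        show (R : ZMod M) * ((R : ZMod M) ^ (n - 1) * x) = x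
        linear_combination x * hR1 }
  have he : ∀ k : ℕ, ∀ x, (e ^ k) x = (R : ZMod M) ^ k * x := by
    intro k
    induction k with
    | zero => simp
    | succ k ih => intro x; rw [pow_succ', Equiv.Perm.mul_apply, ih]; show (R : ZMod M) * _ = _; ring
  let τ : ZMod M → Equiv.Perm (ZMod M) := fun c => Equiv.addLeft c
  have hτ : ∀ k : ℕ, τ 1 ^ k = τ (k : ZMod M) := by
    intro k
    induction k with
    | zero => ext x; simp [τ]
    | succ k ih => ext x; rw [pow_succ', ih]; simp [τ]; ring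
  let a : Equiv.Perm (ZMod M) × Multiplicative ℤ := (τ 1, 1)
  let b : Equiv.Perm (ZMod M) × Multiplicative ℤ := (e, Multiplicative.ofAdd 1)
  let w : Equiv.Perm (ZMod M) × Multiplicative ℤ := b ^ n * (a ^ s)⁻¹
  have hbn : b ^ n = (1, Multiplicative.ofAdd (n : ℤ)) := by
    refine Prod.ext ?_ ?_
    · show e ^ n = 1
      ext x
      rw [he, hRn, one_mul]; rfl
    · show Multiplicative.ofAdd (1 : ℤ) ^ n = _
      rw [← ofAdd_nsmul]; simp
  have hwa : w * a = a * w := by
    have h1 : b ^ n * a = a * b ^ n := by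
      rw [hbn]; exact Prod.ext (by simp [a]) (by simp [a])
    have h2 : (a ^ s)⁻¹ * a = a * (a ^ s)⁻¹ := by group
    calc w * a = b ^ n * ((a ^ s)⁻¹ * a) := by simp only [w, mul_assoc]
      _ = b ^ n * a * (a ^ s)⁻¹ := by rw [h2, mul_assoc]
      _ = a * w := by rw [h1, mul_assoc]
  have hbas : b * a ^ s = a ^ s * b := by
    refine Prod.ext ?_ (mul_comm _ _)
    show e * τ 1 ^ s = τ 1 ^ s * e
    rw [hτ]
    ext x
    show (R : ZMod M) * ((s : ZMod M) + x) = (s : ZMod M) + (R : ZMod M) * x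
    linear_combination hRs
  have hwb : w * b = b * w := by
    have h1 : Commute b (a ^ s) := hbas
    exact ((Commute.refl b).pow_right n |>.mul_right h1.inv_right).symm.eq
  set T := centralizer ({w} : Set (Equiv.Perm (ZMod M) × Multiplicative ℤ))
  let a' : T := ⟨a, mem_centralizer_singleton_iff.2 hwa.symm⟩
  let b' : T := ⟨b, mem_centralizer_singleton_iff.2 hwb.symm⟩
  let w' : T := ⟨w, mem_centralizer_singleton_iff.2 rfl⟩
  haveI : (zpowers w').Normal := normal_zpowers fun g =>
    Subtype.ext (mem_centralizer_singleton_iff.1 g.2)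
  let π := QuotientGroup.mk' (zpowers w')
  have ha1 : a' ^ M = 1 := by
    refine Subtype.ext (Prod.ext ?_ (one_pow M))
    show τ 1 ^ M = 1
    rw [hτ, ZMod.natCast_self]
    ext x; simp [τ]
  have hab : b' * a' * b'⁻¹ = a' ^ R := by
    refine Subtype.ext (Prod.ext ?_ ?_)
    · show e * τ 1 * e⁻¹ = τ 1 ^ R
      rw [hτ, mul_inv_eq_iff_eq_mul]
      ext x
      show (R : ZMod M) * (1 + x) = (R : ZMod M) + (R : ZMod M) * x
      ring
    · show Multiplicative.ofAdd (1 : ℤ) * 1 * (Multiplicative.ofAdd (1 : ℤ))⁻¹ = 1 ^ R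
      simp
  have hb1 : π b' ^ n = π a' ^ s := by
    rw [← mul_inv_eq_one, ← map_pow, ← map_pow, ← map_inv, ← map_mul]
    refine (QuotientGroup.eq_one_iff _).2 ?_
    have : b' ^ n * (a' ^ s)⁻¹ = w' := Subtype.ext rfl
    rw [this]; exact mem_zpowers _
  obtain ⟨f, hfa, -⟩ := exists_hom (M := M) (n := n) (R := R) (s := s) (a := π a') (b := π b')
    (by rw [← map_pow, ha1, map_one]) hb1 (by rw [← map_inv, ← map_mul, ← map_mul, hab, map_pow])
  refine dvd_trans ?_ (orderOf_map_dvd f (genA M n R s))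
  rw [hfa]
  have key : π a' ^ orderOf (π a') = 1 := pow_orderOf_eq_one _
  rw [← map_pow] at key
  obtain ⟨k, hk⟩ := (QuotientGroup.eq_one_iff _).1 key
  have hk' : w ^ k = a ^ orderOf (π a') := congrArg Subtype.val hk
  have h2 := congrArg (fun g : Equiv.Perm (ZMod M) × Multiplicative ℤ => Multiplicative.toAdd g.2) hk'
  simp [w, hbn, a, hn.ne'] at h2
  subst h2
  have h1 : (1 : Equiv.Perm (ZMod M)) = τ 1 ^ orderOf (π a') := by
    rw [zpow_zero] at hk'
    exact congrArg Prod.fst hk'
  rw [hτ] at h1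
  have h3 := congrArg (fun g : Equiv.Perm (ZMod M) => g 0) h1
  simp [τ] at h3
  exact (ZMod.natCast_eq_zero_iff _ _).1 h3.symm

end CfsgLib.Metacyclic
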