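import Cfsg.Agent.Schur.Basic
import Mathlib.GroupTheory.Abelianization.Defs
import Mathlib.GroupTheory.OrderOfElement
import Mathlib.GroupTheory.Perm.Cycle.Type
import Mathlib.LinearAlgebra.FreeModule.PID
import Mathlib.LinearAlgebra.StdBasis
import Mathlib.Data.Nat.Prime.Int
import Mathlib.RingTheory.Coprime.Lemmas

/-!
When covering groups are unique over the group.
-/

set_option autoImplicit false
set_option linter.unusedSectionVars false
set_option linter.style.haveILetI false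

namespace CfsgLib.Schur

open Subgroup
open scoped commutatorElement

universe u v w z

variable {Q : Type u} [Group Q] [Finite Q]

instance finite_abelianization : Finite (Abelianization Q) :=
  Finite.of_surjective (Abelianization.of (G := Q)) fun x => QuotientGroup.mk_surjective x

theorem mem_sup_of_proj {C : Subgroup (Fb Q)}
    (hs : ∀ t ∈ (proj Q).ker, ∃ c ∈ C, c⁻¹ * t ∈ mult Q) {y : Fb Q}
    (hy : proj Q y ∈ commutator Q) : y ∈ commutator (Fb Q) ⊔ C := by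
  rw [_root_.commutator_def, ← map_top_of_surjective (proj Q) (proj_surjective Q),
    ← map_commutator, ← _root_.commutator_def] at hy
  obtain ⟨d, hd, hdy⟩ := hy
  obtain ⟨c, hc, hm⟩ := hs (d⁻¹ * y) (by
    rw [MonoidHom.mem_ker, map_mul, map_inv, hdy, inv_mul_cancel])
  rw [show y = d * (c * (c⁻¹ * (d⁻¹ * y))) by group]
  exact mul_mem (mem_sup_left hd) (mul_mem (mem_sup_right hc) (mem_sup_left hm.2))

theorem proj_pow_card_mem (x : Fb Q) :
    proj Q (x ^ Nat.card (Abelianization Q)) ∈ commutator Q :=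
  (QuotientGroup.eq_one_iff _).1 (show Abelianization.of (proj Q _) = 1 by
    rw [map_pow, map_pow, pow_card_eq_one'])

/-- Covers are unique over `Q` in the coprime case. -/
theorem exists_equiv_of_coprime {A : Type v} [CommGroup A] (hA : Cfsg.HasSchurMultiplier Q A)
    {Γ₁ : Type w} {Γ₂ : Type z} [Group Γ₁] [Finite Γ₁] [Group Γ₂] [Finite Γ₂] (σ₁ : Γ₁ →* Q)
    (σ₂ : Γ₂ →* Q) (h₁ : Cfsg.IsStemExtension σ₁) (h₂ : Cfsg.IsStemExtension σ₂)
    (k₁ : Nonempty (σ₁.ker ≃* A)) (k₂ : Nonempty (σ₂.ker ≃* A))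
    (hcop : Nat.Coprime (Nat.card (Abelianization Q)) (Nat.card A)) :
    ∃ e : Γ₁ ≃* Γ₂, σ₂.comp e.toMonoidHom = σ₁ := by
  obtain ⟨ψ₁, hψ₁⟩ := exists_hom Q σ₁ h₁.1 h₁.2.1
  obtain ⟨ψ₂, hψ₂⟩ := exists_hom Q σ₂ h₂.1 h₂.2.1
  obtain ⟨hs₁, hle₁, hd₁, hsupp₁, -⟩ := cover_facts Q hA σ₁ h₁ k₁ ψ₁ hψ₁
  letI : CommGroup σ₂.ker := { (inferInstance : Group σ₂.ker) with
    mul_comm := fun a b => Subtype.ext (mem_center_iff.1 (h₂.2.1 b.2) a) }
  set C := ψ₁.ker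
  set k := Nat.card (Abelianization Q)
  let ι : C →* Abelianization (Fb Q) := Abelianization.of.comp C.subtype
  have hι : Function.Injective ι := (injective_iff_map_eq_one ι).2 fun c hc => by
    have h : (c : Fb Q) ∈ commutator (Fb Q) := (QuotientGroup.eq_one_iff (c : Fb Q)).1 hc
    exact Subtype.ext (mem_bot.1 (hd₁ ▸ (⟨c.2, h⟩ : (c : Fb Q) ∈ C ⊓ commutator (Fb Q))))
  let pk : Fb Q →* ι.range := ((powMonoidHom k).comp Abelianization.of).codRestrict _ fun x => by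
    obtain ⟨d, hd, c, hc, hdc⟩ :=
      mem_sup_of_normal_left.1 (mem_sup_of_proj hsupp₁ (proj_pow_card_mem x))
    refine ⟨⟨c, hc⟩, ?_⟩
    show Abelianization.of c = Abelianization.of x ^ k
    rw [← map_pow, ← hdc, map_mul, show Abelianization.of d = 1 from
      (QuotientGroup.eq_one_iff d).2 hd, one_mul]
  let f : C →* σ₂.ker := (ψ₂.comp C.subtype).codRestrict _ fun c => by
    show σ₂ (ψ₂ c) = 1
    rw [← MonoidHom.comp_apply, hψ₂]
    exact hle₁ c.2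
  obtain ⟨e₂⟩ := k₂
  have hbij : Function.Bijective (powMonoidHom k : σ₂.ker →* σ₂.ker) :=
    (powCoprime (G := σ₂.ker) (n := k) (by rw [Nat.card_congr e₂.toEquiv]; exact hcop.symm)).bijective
  let r : σ₂.ker ≃* σ₂.ker := MulEquiv.ofBijective _ hbij
  let ν : Fb Q →* σ₂.ker :=
    r.symm.toMonoidHom.comp (f.comp ((MonoidHom.ofInjective hι).symm.toMonoidHom.comp pk))
  have hν : ∀ c : C, ν c = f c := fun c => by
    have h : (MonoidHom.ofInjective hι).symm (pk c) = c ^ k :=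
      (MulEquiv.symm_apply_eq _).2 (Subtype.ext (by
        show Abelianization.of (c : Fb Q) ^ k = ι (c ^ k)
        rw [map_pow]; rfl))
    show r.symm (f ((MonoidHom.ofInjective hι).symm (pk c))) = f c
    rw [h, map_pow, MulEquiv.symm_apply_eq]
    rfl
  let ψ : Fb Q →* Γ₂ := MonoidHom.mk' (fun x => ψ₂ x * ((ν x : σ₂.ker) : Γ₂)⁻¹) fun a b => by
    rw [map_mul, map_mul, Subgroup.coe_mul, mul_inv_rev]
    have h := mem_center_iff.1 (inv_mem (h₂.2.1 (ν a).2)) (ψ₂ b * ((ν b : σ₂.ker) : Γ₂)⁻¹)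
    calc ψ₂ a * ψ₂ b * (((ν b : σ₂.ker) : Γ₂)⁻¹ * ((ν a : σ₂.ker) : Γ₂)⁻¹)
        = ψ₂ a * ((ψ₂ b * ((ν b : σ₂.ker) : Γ₂)⁻¹) * ((ν a : σ₂.ker) : Γ₂)⁻¹) := by group
      _ = _ := by rw [h]; group
  have hψ : σ₂.comp ψ = proj Q := MonoidHom.ext fun x => by
    show σ₂ (ψ₂ x * ((ν x : σ₂.ker) : Γ₂)⁻¹) = proj Q x
    rw [map_mul, map_inv, show σ₂ (ν x : σ₂.ker) = 1 from (ν x).2, inv_one, mul_one,
      ← MonoidHom.comp_apply, hψ₂]
  have hker : C ≤ ψ.ker := fun c hc => by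
    show ψ₂ c * ((ν c : σ₂.ker) : Γ₂)⁻¹ = 1
    rw [hν ⟨c, hc⟩]
    exact mul_inv_cancel (ψ₂ c)
  let e : Γ₁ →* Γ₂ := ψ₁.liftOfSurjective hs₁ ⟨ψ, hker⟩
  have he : ∀ x, e (ψ₁ x) = ψ x := fun x => MonoidHom.liftOfRightInverse_comp_apply _ _ _ _ x
  have hψs : Function.Surjective ψ :=
    surjective_of_stem h₂.2.1 h₂.2.2 ψ (hψ ▸ proj_surjective Q)
  have hes : Function.Surjective e := fun y => by
    obtain ⟨x, rfl⟩ := hψs y
    exact ⟨ψ₁ x, he x⟩
  obtain ⟨e₁⟩ := k₁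
  have hcard : Nat.card Γ₁ = Nat.card Γ₂ := by
    rw [← card_mul_index σ₁.ker, ← card_mul_index σ₂.ker, index_ker, index_ker,
      MonoidHom.range_eq_top.2 h₁.1, MonoidHom.range_eq_top.2 h₂.1,
      Nat.card_congr (e₁.trans e₂.symm).toEquiv]
  refine ⟨MulEquiv.ofBijective e ((Nat.bijective_iff_surjective_and_card _).2 ⟨hes, hcard⟩),
    MonoidHom.ext fun y => ?_⟩
  obtain ⟨x, rfl⟩ := hs₁ y
  show σ₂ (e (ψ₁ x)) = σ₁ (ψ₁ x)
  rw [he, ← MonoidHom.comp_apply, hψ, ← MonoidHom.comp_apply, hψ₁]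

/-- A common prime gives two covers not equivalent over `Q`. -/
theorem exists_nonequiv_of_dvd {A : Type v} [CommGroup A] (hA : Cfsg.HasSchurMultiplier Q A)
    (p : ℕ) [Fact p.Prime] (hp1 : p ∣ Nat.card (Abelianization Q)) (hp2 : p ∣ Nat.card A) :
    ¬ ∀ (Γ₁ Γ₂ : Type u) [Group Γ₁] [Finite Γ₁] [Group Γ₂] [Finite Γ₂] (σ₁ : Γ₁ →* Q)
      (σ₂ : Γ₂ →* Q), Cfsg.IsStemExtension σ₁ → Cfsg.IsStemExtension σ₂ →
      Nonempty (σ₁.ker ≃* A) → Nonempty (σ₂.ker ≃* A) →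
      ∃ e : Γ₁ ≃* Γ₂, σ₂.comp e.toMonoidHom = σ₁ := by
  classical
  intro huniq
  haveI := Fintype.ofFinite Q
  have hp := Fact.out (p := p.Prime)
  obtain ⟨eA⟩ := equiv_mult Q hA
  obtain ⟨C, hC, hd, hs⟩ := exists_compl Q (proj Q).ker le_rfl fun t ht => ⟨t, ht, by
    rw [inv_mul_cancel]; exact one_mem _⟩
  -- an element whose `p`th power lands in `C` modulo the derived group
  obtain ⟨α, hα⟩ := exists_prime_orderOf_dvd_card' (G := Abelianization Q) p hp1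
  obtain ⟨a₀, ha₀⟩ := QuotientGroup.mk_surjective α
  obtain ⟨x, hx⟩ := proj_surjective Q a₀
  have hxα : Abelianization.of (proj Q x) = α := by rw [hx]; exact ha₀
  have hxp : x ^ p ∈ commutator (Fb Q) ⊔ C := mem_sup_of_proj hs
    ((QuotientGroup.eq_one_iff _).1 (show Abelianization.of (proj Q _) = 1 by
      rw [map_pow, map_pow, hxα, ← hα, pow_orderOf_eq_one]))
  have hxn : ∀ c ∈ C, x * c⁻¹ ∉ commutator (Fb Q) := by
    intro c hc h
    have h1 : Abelianization.of (proj Q (x * c⁻¹)) = 1 :=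
      MonoidHom.mem_ker.1 (Abelianization.commutator_subset_ker (Abelianization.of.comp (proj Q)) h)
    rw [map_mul, map_inv, show proj Q c = 1 from hC hc, inv_one, mul_one, hxα,
      ← orderOf_eq_one_iff, hα] at h1
    exact hp.ne_one h1
  obtain ⟨d, hd', c, hc, hdc⟩ := mem_sup_of_normal_left.1 hxp
  -- a homomorphism on `C`
  obtain ⟨abK, hab⟩ := exists_exponentMap Q
  letI : CommGroup C := { (inferInstance : Group C) with
    mul_comm := fun a b => Subtype.ext (mem_center_iff.1 (ker_proj_le_center Q (hC b.2)) a) }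
  let g : Additive C →ₗ[ℤ] (Q → ℤ) :=
    (MonoidHom.toAdditiveLeft (abK.comp C.subtype)).toIntLinearMap
  obtain ⟨n, b⟩ := Submodule.basisOfPid (Pi.basisFun ℤ Q) (LinearMap.range g)
  obtain ⟨i, hi⟩ : ∃ i, ¬ (p : ℤ) ∣ b.repr (g.rangeRestrict (Additive.ofMul ⟨c, hc⟩)) i := by
    by_contra hall
    push Not at hall
    choose r hr using hall
    obtain ⟨⟨c₀, hc₀⟩, hw⟩ := g.surjective_rangeRestrict (∑ i, r i • b i)
    have h1 : g.rangeRestrict (Additive.ofMul ⟨c, hc⟩) = (p : ℤ) • ∑ i, r i • b i := by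
      rw [← b.sum_repr (g.rangeRestrict (Additive.ofMul ⟨c, hc⟩)), Finset.smul_sum]
      exact Finset.sum_congr rfl fun i _ => by rw [smul_smul, hr]
    rw [← hw] at h1
    have h2 : abK c = abK c₀ ^ (p : ℤ) := congrArg Multiplicative.ofAdd (congrArg Subtype.val h1)
    have h3 : abK x ^ (p : ℤ) = abK c₀ ^ (p : ℤ) := by
      rw [← h2, zpow_natCast, ← map_pow, ← hdc, map_mul, (hab d).2 hd', one_mul]
    refine hxn c₀ hc₀ ((hab _).1 ?_)
    rw [map_mul, map_inv, mul_inv_eq_one]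
    exact Multiplicative.toAdd.injective
      (smul_right_injective (Q → ℤ) (show (p : ℤ) ≠ 0 by exact_mod_cast hp.ne_zero)
        (congrArg Multiplicative.toAdd h3))
  -- an element which is not a `p`th power
  obtain ⟨a, ha⟩ : ∃ a : mult Q, ∀ y : mult Q, y ^ p ≠ a := by
    by_contra h
    push Not at h
    obtain ⟨y, hy⟩ := exists_prime_orderOf_dvd_card' (G := mult Q) p
      (by rwa [← Nat.card_congr eA.toEquiv])
    have hinj : Function.Injective fun y : mult Q => y ^ p := Finite.injective_iff_surjective.2 h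
    have h1 : y = 1 := hinj (show y ^ p = 1 ^ p by rw [one_pow, ← hy, pow_orderOf_eq_one])
    rw [h1, orderOf_one] at hy
    exact hp.ne_one hy.symm
  let φ : C →* Multiplicative ℤ :=
    AddMonoidHom.toMultiplicativeRight
      ((b.coord i).toAddMonoidHom.comp g.rangeRestrict.toAddMonoidHom)
  let f : C →* mult Q := (zpowersHom (mult Q) a).comp φ
  have hfc : f ⟨c, hc⟩ = a ^ (b.repr (g.rangeRestrict (Additive.ofMul ⟨c, hc⟩)) i) := rfl
  -- the twisted complement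
  have hcen : ∀ y : mult Q, ∀ t : Fb Q, t * y = y * t := fun y t =>
    mem_center_iff.1 (ker_proj_le_center Q y.2.1) t
  let tw : C →* Fb Q := MonoidHom.mk' (fun c => (c : Fb Q) * (f c : Fb Q)) fun s t => by
    rw [map_mul, Subgroup.coe_mul, Subgroup.coe_mul]
    rw [show (s : Fb Q) * t * ((f s : Fb Q) * (f t : Fb Q)) =
      (s : Fb Q) * ((t : Fb Q) * (f s : Fb Q)) * (f t : Fb Q) by group, hcen (f s) t]
    group
  have hC' : tw.range ≤ (proj Q).ker := by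
    rintro _ ⟨c, rfl⟩
    exact mul_mem (hC c.2) (f c).2.1
  have hd2 : tw.range ⊓ commutator (Fb Q) = ⊥ := by
    refine (eq_bot_iff_forall _).2 ?_
    rintro _ ⟨⟨c, rfl⟩, h⟩
    have h1 : (c : Fb Q) ∈ commutator (Fb Q) := (Subgroup.mul_mem_cancel_right _ (f c).2.2).1 h
    have h2 : c = 1 :=
      Subtype.ext (mem_bot.1 (hd ▸ (⟨c.2, h1⟩ : (c : Fb Q) ∈ C ⊓ commutator (Fb Q))))
    rw [h2, map_one]
  have hs2 : ∀ t ∈ (proj Q).ker, ∃ c ∈ tw.range, c⁻¹ * t ∈ mult Q := by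
    intro t ht
    obtain ⟨c, hc, hm⟩ := hs t ht
    refine ⟨tw ⟨c, hc⟩, ⟨_, rfl⟩, ?_⟩
    show (c * (f ⟨c, hc⟩ : Fb Q))⁻¹ * t ∈ mult Q
    rw [mul_inv_rev, mul_assoc]
    exact (mult Q).mul_mem ((mult Q).inv_mem (f ⟨c, hc⟩).2) hm
  obtain ⟨Γ₁, _, _, q₁, σ₁, hq₁, hσ₁, -, hk₁, hb₁⟩ := cover_of_compl Q C hC hd hs
  obtain ⟨Γ₂, _, _, q₂, σ₂, hq₂, hσ₂, -, hk₂, hb₂⟩ := cover_of_compl Q tw.range hC' hd2 hs2
  obtain ⟨e, he⟩ := huniq Γ₁ Γ₂ σ₁ σ₂ hσ₁ hσ₂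
    ⟨(MulEquiv.ofBijective _ hb₁).symm.trans eA.symm⟩
    ⟨(MulEquiv.ofBijective _ hb₂).symm.trans eA.symm⟩
  letI : CommGroup σ₂.ker := { (inferInstance : Group σ₂.ker) with
    mul_comm := fun a b => Subtype.ext (mem_center_iff.1 (hσ₂.2.1 b.2) a) }
  have hdiff : ∀ y, (e (q₁ y))⁻¹ * q₂ y ∈ σ₂.ker := fun y => by
    rw [MonoidHom.mem_ker, map_mul, map_inv,
      show σ₂ (e (q₁ y)) = σ₁ (q₁ y) from DFunLike.congr_fun he _,
      show σ₁ (q₁ y) = proj Q y from DFunLike.congr_fun hq₁ y,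
      show σ₂ (q₂ y) = proj Q y from DFunLike.congr_fun hq₂ y, inv_mul_cancel]
  let ν : Fb Q →* σ₂.ker := MonoidHom.mk' (fun y => ⟨_, hdiff y⟩) fun s t => Subtype.ext (by
    show (e (q₁ (s * t)))⁻¹ * q₂ (s * t) = ((e (q₁ s))⁻¹ * q₂ s) * ((e (q₁ t))⁻¹ * q₂ t)
    have h := mem_center_iff.1 (hσ₂.2.1 (hdiff s)) (e (q₁ t))⁻¹
    calc (e (q₁ (s * t)))⁻¹ * q₂ (s * t)
        = ((e (q₁ t))⁻¹ * ((e (q₁ s))⁻¹ * q₂ s)) * q₂ t := by
          rw [map_mul, map_mul, map_mul]; group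
      _ = _ := by rw [h]; group)
  let M₂ := MulEquiv.ofBijective (multMap Q σ₂ q₂ hq₂) hb₂
  let ν' : Fb Q →* mult Q := M₂.symm.toMonoidHom.comp ν
  have hνc : ν' c = (f ⟨c, hc⟩)⁻¹ := by
    refine (MulEquiv.symm_apply_eq M₂).2 (Subtype.ext ?_)
    show (e (q₁ c))⁻¹ * q₂ c = q₂ ((f ⟨c, hc⟩)⁻¹ : mult Q)
    rw [show q₁ c = 1 from MonoidHom.mem_ker.1 (hk₁.symm ▸ hc), map_one, inv_one, one_mul,
      Subgroup.coe_inv, map_inv, eq_inv_iff_mul_eq_one, ← map_mul]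
    exact MonoidHom.mem_ker.1 (hk₂.symm ▸ (⟨⟨c, hc⟩, rfl⟩ : tw ⟨c, hc⟩ ∈ tw.range))
  have hνx : ν' x ^ p = (f ⟨c, hc⟩)⁻¹ := by
    rw [← map_pow, ← hdc, map_mul, hνc,
      MonoidHom.mem_ker.1 (Abelianization.commutator_subset_ker ν' hd'), one_mul]
  set N := b.repr (g.rangeRestrict (Additive.ofMul ⟨c, hc⟩)) i
  obtain ⟨s, t, hst⟩ := (Prime.coprime_iff_not_dvd (Nat.prime_iff_prime_int.1 hp)).2 hi
  refine ha (a ^ s * ((ν' x)⁻¹) ^ t) ?_
  have h1 : ((ν' x)⁻¹) ^ (p : ℤ) = a ^ N := by rw [zpow_natCast, inv_pow, hνx, inv_inv, hfc]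
  calc (a ^ s * ((ν' x)⁻¹) ^ t) ^ p = a ^ (s * p) * (((ν' x)⁻¹) ^ (p : ℤ)) ^ t := by
        rw [← zpow_natCast, mul_zpow, ← zpow_mul, ← zpow_mul, ← zpow_mul, mul_comm t]
    _ = a ^ (s * p + t * N) := by rw [h1, ← zpow_mul, ← zpow_add, mul_comm N]
    _ = a := by rw [hst, zpow_one]

end CfsgLib.Schur
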